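import Mathlib

/-!
# Three integer vectors of norm four and mutual product two
-/

set_option autoImplicit false

namespace CfsgLib.EightSolvCent

/-- The weighted sum distinguishing the first two vectors cannot vanish. -/
theorem weighted_ne_zero {ι : Type*} [Fintype ι] (p : ι) (c₀ c₁ c₂ : ι → ℤ) (d : ι → ℝ)
    (h00 : ∑ i, c₀ i * c₀ i = 4) (h11 : ∑ i, c₁ i * c₁ i = 4)
    (h01 : ∑ i, c₀ i * c₁ i = 2) (h02 : ∑ i, c₀ i * c₂ i = 2) (h12 : ∑ i, c₁ i * c₂ i = 2)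
    (hp0 : c₀ p = 1) (hp1 : c₁ p = 0) (hp2 : c₂ p = 0) (hdp : d p = 1)
    (hb : ∀ i, |c₀ i| ≤ 1 ∧ |c₁ i| ≤ 1 ∧ |c₂ i| ≤ 1)
    (hd1 : ∀ i, i ≠ p → |c₀ i + c₁ i + c₂ i| = 1 → 7 ≤ d i)
    (hd2 : ∀ i, i ≠ p → |c₀ i + c₁ i + c₂ i| = 2 → 10 ≤ d i) :
    ∑ i, ((c₀ i + c₁ i + c₂ i : ℤ) : ℝ) ^ 2 * ((c₀ i - c₁ i : ℤ) : ℝ) / d i ≠ 0 := by
  classical
  have hee : ∑ i, (c₀ i - c₁ i) * (c₀ i - c₁ i) = 4 := by
    simp only [show ∀ i, (c₀ i - c₁ i) * (c₀ i - c₁ i) =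
      c₀ i * c₀ i + c₁ i * c₁ i - 2 * (c₀ i * c₁ i) from fun i => by ring,
      Finset.sum_sub_distrib, Finset.sum_add_distrib, ← Finset.mul_sum]
    omega
  set R := (Finset.univ : Finset ι).erase p with hR
  have hee' : ∑ i ∈ R, (c₀ i - c₁ i) * (c₀ i - c₁ i) = 3 := by
    rw [← Finset.add_sum_erase _ _ (Finset.mem_univ p), hp0, hp1] at hee
    linarith
  have hunit : ∀ i ∈ R, c₀ i - c₁ i = 0 ∨ c₀ i - c₁ i = 1 ∨ c₀ i - c₁ i = -1 := by
    intro i hi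
    have h := Finset.single_le_sum (f := fun i => (c₀ i - c₁ i) * (c₀ i - c₁ i))
      (fun j _ => mul_self_nonneg _) hi
    simp only [hee'] at h
    have h1 : -1 ≤ c₀ i - c₁ i := by nlinarith
    have h2 : c₀ i - c₁ i ≤ 1 := by nlinarith
    omega
  set D := R.filter fun i => c₀ i - c₁ i ≠ 0 with hD
  have hD3 : D.card = 3 := by
    have h : ∑ i ∈ D, (c₀ i - c₁ i) * (c₀ i - c₁ i) = 3 := by
      rw [hD, Finset.sum_filter_of_ne]
      · exact hee'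
      · exact fun i _ h h0 => h (by rw [h0, zero_mul])
    rw [Finset.sum_congr rfl (g := fun _ => (1 : ℤ)) fun i hi => by
      obtain ⟨hi1, hi2⟩ := Finset.mem_filter.1 hi
      rcases hunit i hi1 with e | e | e <;> rw [e] <;> simp_all] at h
    simp at h
    exact_mod_cast h
  have hs2 : ∀ i ∈ D, |c₀ i + c₁ i + c₂ i| ≤ 2 := by
    intro i hi
    obtain ⟨hi1, hi2⟩ := Finset.mem_filter.1 hi
    obtain ⟨b0, b1, b2⟩ := hb i
    have := hunit i hi1
    rw [abs_le] at b0 b1 b2 ⊢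
    omega
  -- some member of the support has small value
  obtain ⟨a, ha, has⟩ : ∃ a ∈ D, |c₀ a + c₁ a + c₂ a| ≤ 1 := by
    by_contra hno
    push Not at hno
    have hodd : ∀ i ∈ D, c₂ i * (c₀ i - c₁ i) = 1 ∨ c₂ i * (c₀ i - c₁ i) = -1 := by
      intro i hi
      obtain ⟨b0, b1, b2⟩ := hb i
      have h3 := hs2 i hi
      have h4 := hno i hi
      have h5 := hunit i (Finset.mem_filter.1 hi).1
      have h6 := (Finset.mem_filter.1 hi).2
      have h7 : c₂ i = 1 ∨ c₂ i = -1 := by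
        rw [abs_le] at b0 b1 b2 h3
        rw [lt_abs] at h4
        omega
      rcases h7 with e | e <;> rcases h5 with e' | e' | e' <;> rw [e, e'] <;> simp_all
    have heven : ∑ i, c₂ i * (c₀ i - c₁ i) = 0 := by
      simp only [mul_sub, Finset.sum_sub_distrib]
      rw [Finset.sum_congr rfl (g := fun i => c₀ i * c₂ i) (fun i _ => mul_comm _ _), h02,
        Finset.sum_congr rfl (g := fun i => c₁ i * c₂ i) (fun i _ => mul_comm _ _), h12]
      norm_num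
    rw [← Finset.add_sum_erase _ _ (Finset.mem_univ p), hp2, zero_mul, zero_add,
      ← hR, ← Finset.sum_filter_of_ne (p := fun i => c₀ i - c₁ i ≠ 0)
        (fun i _ h h0 => h (by rw [h0, mul_zero])), ← hD] at heven
    obtain ⟨u, v, w, huv, huw, hvw, hDe⟩ := Finset.card_eq_three.1 hD3
    rw [hDe, Finset.sum_insert (by simp [huv, huw]), Finset.sum_pair hvw] at heven
    have := hodd u (by simp [hDe])
    have := hodd v (by simp [hDe])
    have := hodd w (by simp [hDe])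
    omega
  have hterm : ∀ i ∈ D, |((c₀ i + c₁ i + c₂ i : ℤ) : ℝ) ^ 2 * ((c₀ i - c₁ i : ℤ) : ℝ) / d i| ≤ 2 / 5 ∧
      (|c₀ i + c₁ i + c₂ i| ≤ 1 →
        |((c₀ i + c₁ i + c₂ i : ℤ) : ℝ) ^ 2 * ((c₀ i - c₁ i : ℤ) : ℝ) / d i| ≤ 1 / 7) := by
    intro i hi
    obtain ⟨hi1, hi2⟩ := Finset.mem_filter.1 hi
    have hip := Finset.ne_of_mem_erase hi1
    have he : |((c₀ i - c₁ i : ℤ) : ℝ)| = 1 := by
      rcases hunit i hi1 with e | e | e
      · exact absurd e hi2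
      · rw [e]; norm_num
      · rw [e]; norm_num
    rw [abs_div, abs_mul, he, mul_one, abs_pow, ← Int.cast_abs]
    have h := hs2 i hi
    rcases (show |c₀ i + c₁ i + c₂ i| = 0 ∨ |c₀ i + c₁ i + c₂ i| = 1 ∨
        |c₀ i + c₁ i + c₂ i| = 2 by have := abs_nonneg (c₀ i + c₁ i + c₂ i); omega) with e | e | e
    · rw [e]; norm_num
    · have h7 := hd1 i hip e
      rw [e, abs_of_pos (by linarith : (0 : ℝ) < d i)]
      have hb7 : (((1 : ℤ) : ℝ)) ^ 2 / d i ≤ 1 / 7 := by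
        push_cast; rw [one_pow]; exact one_div_le_one_div_of_le (by norm_num) h7
      exact ⟨le_trans hb7 (by norm_num), fun _ => hb7⟩
    · have h10 := hd2 i hip e
      rw [e, abs_of_pos (by linarith : (0 : ℝ) < d i)]
      refine ⟨?_, fun h' => by omega⟩
      push_cast
      rw [div_le_iff₀ (by linarith)]
      nlinarith
  intro hzero
  rw [← Finset.add_sum_erase _ _ (Finset.mem_univ p), ← hR, hp0, hp1, hp2, hdp,
    ← Finset.sum_filter_of_ne (p := fun i => c₀ i - c₁ i ≠ 0)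
      (fun i _ h h0 => h (by rw [h0]; simp)), ← hD] at hzero
  norm_num at hzero
  have h1 : |∑ i ∈ D, ((c₀ i + c₁ i + c₂ i : ℤ) : ℝ) ^ 2 * ((c₀ i - c₁ i : ℤ) : ℝ) / d i| = 1 := by
    have : ∑ i ∈ D, ((c₀ i + c₁ i + c₂ i : ℤ) : ℝ) ^ 2 * ((c₀ i - c₁ i : ℤ) : ℝ) / d i = -1 := by
      push_cast
      linarith
    rw [this]; norm_num
  have h2 := Finset.abs_sum_le_sum_abs
    (fun i => ((c₀ i + c₁ i + c₂ i : ℤ) : ℝ) ^ 2 * ((c₀ i - c₁ i : ℤ) : ℝ) / d i) D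
  rw [h1, ← Finset.add_sum_erase _ _ ha] at h2
  have h3 := (hterm a ha).2 has
  have h4 := Finset.sum_le_card_nsmul (D.erase a)
    (fun i => |((c₀ i + c₁ i + c₂ i : ℤ) : ℝ) ^ 2 * ((c₀ i - c₁ i : ℤ) : ℝ) / d i|) (2 / 5)
    (fun i hi => (hterm i (Finset.mem_of_mem_erase hi)).1)
  rw [Finset.card_erase_of_mem ha, hD3] at h4
  norm_num at h4
  push_cast at h2 h3
  linarith

end CfsgLib.EightSolvCent
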