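import Mathlib

/-!
# Odd groups of automorphisms of an elementary abelian group of order eight
-/

set_option autoImplicit false

namespace CfsgLib.EightSolvCent

variable {S : Type*} [Group S]

theorem eight_comm (hsq : ∀ s : S, s * s = 1) (a b : S) : a * b = b * a := by
  have hi : ∀ s : S, s⁻¹ = s := fun s => inv_eq_of_mul_eq_one_right (hsq s)
  rw [← hi (a * b), mul_inv_rev, hi, hi]

variable [Finite S] (hcard : Nat.card S = 8) (hsq : ∀ s : S, s * s = 1)
  (A : Subgroup (MulAut S)) (hodd : Odd (Nat.card A))

include hcard hsq hodd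

/-- An element of the group fixing two independent elements is trivial. -/
theorem eq_one_of_fix_two {v w : S} (hv : v ≠ 1) (hw : w ≠ 1) (hvw : v ≠ w) {a : A}
    (hav : a • v = v) (haw : a • w = w) : a = 1 := by
  classical
  haveI := Fintype.ofFinite S
  have ha : ∀ x y : S, a • (x * y) = (a • x) * (a • y) := fun x y => map_mul (a : MulAut S) x y
  have ha1 : a • (1 : S) = 1 := map_one (a : MulAut S)
  set V : Finset S := {1, v, w, v * w} with hV
  have hfix : ∀ x ∈ V, a • x = x := by
    intro x hx
    simp only [hV, Finset.mem_insert, Finset.mem_singleton] at hx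
    rcases hx with e | e | e | e <;> rw [e]
    · exact ha1
    · exact hav
    · exact haw
    · rw [ha, hav, haw]
  have hvw1 : v * w ≠ 1 := fun h =>
    hvw ((eq_inv_of_mul_eq_one_left h).trans (inv_eq_of_mul_eq_one_right (hsq w)))
  have hVcard : V.card = 4 := by
    simp [hV, hv.symm, hw.symm, hvw, hvw1.symm, hv, hw, hvw.symm]
  have hmul : ∀ x ∈ V, ∀ y ∈ V, x * y ∈ V := by
    intro x hx y hy
    simp only [hV, Finset.mem_insert, Finset.mem_singleton] at hx hy ⊢
    have h1 : v * (v * w) = w := by rw [← mul_assoc, hsq, one_mul]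
    have h2 : v * w * v = w := by rw [eight_comm hsq v w, mul_assoc, hsq, mul_one]
    have h3 : w * (v * w) = v := by rw [eight_comm hsq v w, ← mul_assoc, hsq, one_mul]
    have h4 : v * w * w = v := by rw [mul_assoc, hsq, mul_one]
    rcases hx with e | e | e | e <;> rcases hy with e' | e' | e' | e' <;> rw [e, e'] <;>
      simp [hsq, h1, h2, h3, h4, eight_comm hsq w v]
  have hout : ∀ u : S, u ∉ V → ∀ x, x ∉ V → u * x ∈ V := by
    intro u hu x hx
    by_contra hux
    have hdis : Disjoint V (V.image (u * ·)) := by
      rw [Finset.disjoint_left]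
      intro y hy hy'
      obtain ⟨z, hz, rfl⟩ := Finset.mem_image.1 hy'
      apply hu
      have := hmul _ hy z hz
      rwa [mul_assoc, hsq, mul_one] at this
    have hall : V ∪ V.image (u * ·) = Finset.univ := by
      refine Finset.eq_univ_of_card _ ?_
      rw [Finset.card_union_of_disjoint hdis,
        Finset.card_image_of_injective _ (mul_right_injective u), hVcard,
        ← Nat.card_eq_fintype_card, hcard]
    rcases Finset.mem_union.1 (hall ▸ Finset.mem_univ x) with h | h
    · exact hx h
    · obtain ⟨z, hz, rfl⟩ := Finset.mem_image.1 h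
      exact hux (by rwa [← mul_assoc, hsq, one_mul])
  have hsqfix : ∀ u : S, a • (a • u) = u := by
    intro u
    by_cases hu : u ∈ V
    · rw [hfix u hu, hfix u hu]
    · have hau : a • u ∉ V := fun h => hu (by
        rw [← MulAction.injective a (hfix _ h)]; exact h)
      have h := hfix _ (hout u hu _ hau)
      rw [ha] at h
      calc a • (a • u) = (a • u)⁻¹ * (u * (a • u)) := by rw [← h, inv_mul_cancel_left]
        _ = u := by
          rw [eight_comm hsq u, inv_mul_cancel_left]
  have ha2 : a ^ 2 = 1 := by
    apply Subtype.ext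
    apply MulEquiv.ext
    intro u
    rw [pow_two]
    exact hsqfix u
  have hd : orderOf a ∣ Nat.gcd 2 (Nat.card A) :=
    Nat.dvd_gcd (orderOf_dvd_of_pow_eq_one ha2) (orderOf_dvd_natCard a)
  rw [Nat.coprime_two_left.2 hodd] at hd
  exact orderOf_eq_one_iff.1 (Nat.dvd_one.1 hd)

/-- The stabilizer of a point has order one or three. -/
theorem card_stabilizer {v : S} (hv : v ≠ 1) :
    Nat.card (MulAction.stabilizer A v) = 1 ∨ Nat.card (MulAction.stabilizer A v) = 3 := by
  classical
  haveI := Fintype.ofFinite S
  set K := MulAction.stabilizer A v with hK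
  -- every element of prime order has order three
  have hp : ∀ p : ℕ, p.Prime → p ∣ Nat.card K → p = 3 := by
    intro p hp hd
    haveI := Fact.mk hp
    obtain ⟨a, ha⟩ := exists_prime_orderOf_dvd_card' p hd
    have hPG : IsPGroup p (Subgroup.zpowers a) :=
      IsPGroup.of_card (n := 1) (by rw [Nat.card_zpowers, ha, pow_one])
    have hmod := hPG.card_modEq_card_fixedPoints S
    have hF : MulAction.fixedPoints (Subgroup.zpowers a) S = {1, v} := by
      ext w
      simp only [Set.mem_insert_iff, Set.mem_singleton_iff]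
      constructor
      · intro hw
        by_contra hne
        push Not at hne
        have h1 : ((a : A)) = 1 := eq_one_of_fix_two hcard hsq A hodd hv hne.1 hne.2.symm a.2
          (hw ⟨a, Subgroup.mem_zpowers a⟩)
        have h2 : a = 1 := Subtype.ext h1
        rw [h2, orderOf_one] at ha
        exact hp.ne_one ha.symm
      · rintro (rfl | rfl) ⟨b, hb⟩
        · exact map_one ((b : A) : MulAut S)
        · exact b.2
    rw [hcard, hF, Nat.card_coe_set_eq, Set.ncard_pair hv.symm] at hmod
    have h6 : p ∣ 6 := by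
      have := (Nat.modEq_iff_dvd' (by norm_num)).1 hmod.symm
      simpa using this
    have hpodd : p ≠ 2 := by
      rintro rfl
      have h2 : 2 ∣ Nat.card A := hd.trans (Subgroup.card_subgroup_dvd_card K)
      exact (Nat.not_even_iff_odd.2 hodd) (even_iff_two_dvd.2 h2)
    have := Nat.le_of_dvd (by norm_num) h6
    interval_cases p <;> first | rfl | omega | (exact absurd hp (by norm_num))
  -- orbit bound
  obtain ⟨w, hw1, hwv⟩ : ∃ w : S, w ≠ 1 ∧ w ≠ v := by
    by_contra hno
    push Not at hno
    have hu : (Finset.univ : Finset S) ⊆ {1, v} := by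
      intro x _
      by_cases hx : x = 1
      · simp [hx]
      · simp [hno x hx]
    have := (Finset.card_le_card hu).trans Finset.card_le_two
    rw [Finset.card_univ, ← Nat.card_eq_fintype_card, hcard] at this
    omega
  have hinj : Function.Injective fun k : K => (k : A) • w := by
    intro k l hkl
    have h : ((l⁻¹ * k : K) : A) • w = w := by
      rw [Subgroup.coe_mul, Subgroup.coe_inv, mul_smul, inv_smul_eq_iff]
      exact hkl
    have h1 := eq_one_of_fix_two hcard hsq A hodd hv hw1 hwv.symm (l⁻¹ * k).2 h
    exact (inv_mul_eq_one.1 (Subtype.ext h1 : l⁻¹ * k = 1)).symm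
  have hle : Nat.card K ≤ 6 := by
    have hsub : Set.range (fun k : K => (k : A) • w) ⊆ ({1, v}ᶜ : Set S) := by
      rintro x ⟨k, rfl⟩ hx
      rcases hx with hx | hx
      · exact hw1 (MulAction.injective (k : A) (hx.trans (map_one ((k : A) : MulAut S)).symm))
      · exact hwv (MulAction.injective (k : A) (hx.trans k.2.symm))
    have h := Set.ncard_le_ncard hsub
    rw [← Nat.card_coe_set_eq, Nat.card_range_of_injective hinj, Set.ncard_compl,
      Set.ncard_pair hv.symm, hcard] at h
    exact h
  have hKodd : Odd (Nat.card K) := hodd.of_dvd_nat (Subgroup.card_subgroup_dvd_card K)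
  rcases Nat.odd_iff.1 hKodd with hk
  interval_cases hc : Nat.card K <;> first | omega | (have := hp 5 (by norm_num) dvd_rfl; omega)

/-- Without fixed points the group is transitive, of order `7` or with point stabilizers of order
`3`. -/
theorem transitive (hfix : ∀ v : S, v ≠ 1 → ∃ a : A, a • v ≠ v) :
    (∀ v w : S, v ≠ 1 → w ≠ 1 → ∃ a : A, a • v = w) ∧
      (Nat.card A = 7 ∨ ∀ v : S, v ≠ 1 → Nat.card (MulAction.stabilizer A v) = 3) := by
  classical
  haveI := Fintype.ofFinite S
  have ho : ∀ v : S, v ≠ 1 → 3 ≤ (MulAction.orbit A v).ncard ∧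
      Odd (MulAction.orbit A v).ncard := by
    intro v hv
    have hidx := MulAction.index_stabilizer A v
    have hod : Odd (MulAction.orbit A v).ncard := by
      rw [← hidx]
      exact hodd.of_dvd_nat (MulAction.stabilizer A v).index_dvd_card
    refine ⟨?_, hod⟩
    obtain ⟨a, ha⟩ := hfix v hv
    have h2 : 1 < (MulAction.orbit A v).ncard :=
      (Set.one_lt_ncard).2 ⟨_, MulAction.mem_orbit v a, v, MulAction.mem_orbit_self v, ha⟩
    obtain ⟨k, hk⟩ := hod
    omega
  have hne : ∀ v : S, v ≠ 1 → MulAction.orbit A v ⊆ ({1}ᶜ : Set S) := by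
    rintro v hv x ⟨a, rfl⟩ (hx : a • v = 1)
    exact hv (MulAction.injective a (hx.trans (map_one (a : MulAut S)).symm))
  have hdis : ∀ v w : S, w ∉ MulAction.orbit A v →
      Disjoint (MulAction.orbit A v) (MulAction.orbit A w) := by
    intro v w h
    rw [Set.disjoint_left]
    intro x hx hx'
    exact h (by rw [← MulAction.orbit_eq_iff.2 hx, MulAction.orbit_eq_iff.2 hx']
                exact MulAction.mem_orbit_self w)
  have h7 : ({1}ᶜ : Set S).ncard = 7 := by
    rw [Set.ncard_compl, Set.ncard_singleton, hcard]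
  have horb : ∀ v : S, v ≠ 1 → MulAction.orbit A v = ({1}ᶜ : Set S) := by
    intro v hv
    refine Set.eq_of_subset_of_ncard_le (hne v hv) ?_
    rw [h7]
    by_contra hlt
    obtain ⟨w, hw, hwo⟩ : ∃ w ∈ ({1}ᶜ : Set S), w ∉ MulAction.orbit A v := by
      refine Set.exists_mem_notMem_of_ncard_lt_ncard ?_
      rw [h7]; omega
    have hu := Set.ncard_union_eq (hdis v w hwo)
    have hle := Set.ncard_le_ncard (Set.union_subset (hne v hv) (hne w hw))
    rw [hu, h7] at hle
    obtain ⟨h1, ⟨i, hi⟩⟩ := ho v hv
    obtain ⟨h2, ⟨j, hj⟩⟩ := ho w hw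
    obtain ⟨z, hz, hzo⟩ : ∃ z ∈ ({1}ᶜ : Set S),
        z ∉ MulAction.orbit A v ∪ MulAction.orbit A w := by
      refine Set.exists_mem_notMem_of_ncard_lt_ncard ?_
      rw [h7, hu]; omega
    rw [Set.mem_union, not_or] at hzo
    have hd : Disjoint (MulAction.orbit A v ∪ MulAction.orbit A w) (MulAction.orbit A z) :=
      Set.disjoint_union_left.2 ⟨hdis v z hzo.1, hdis w z hzo.2⟩
    have hle' := Set.ncard_le_ncard
      (Set.union_subset (Set.union_subset (hne v hv) (hne w hw)) (hne z hz))
    rw [Set.ncard_union_eq hd, hu, h7] at hle'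
    have := (ho z hz).1
    omega
  refine ⟨fun v w hv hw => ?_, ?_⟩
  · have : w ∈ MulAction.orbit A v := by rw [horb v hv]; exact hw
    exact this
  · by_contra hno
    push Not at hno
    obtain ⟨hA, v, hv, hK⟩ := hno
    have h1 := (card_stabilizer hcard hsq A hodd hv).resolve_right hK
    have h2 := (MulAction.stabilizer A v).card_mul_index
    rw [h1, MulAction.index_stabilizer, horb v hv, h7] at h2
    exact hA h2.symm

end CfsgLib.EightSolvCent
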