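import Cfsg.Agent.Lib.EightSolvCent.Fibre
import Cfsg.Agent.Lib.Blocks.ThirdMain
import Cfsg.Agent.Lib.Blocks.PrincipalBlock
import Cfsg.Agent.Lib.CharApps.Basic
import Cfsg.Agent.Lib.Chars.Quotient
import Cfsg.Agent.Lib.CharsMore.ItoDegree

/-!
# The principal block of a centralizer `2 × A₄` modulo the core
-/

set_option autoImplicit false
set_option linter.style.haveILetI false
set_option linter.unusedSectionVars false

namespace CfsgLib.EightSolvCent

open Cfsg CfsgLib.Base CfsgLib.Chars CfsgLib.Blocks CfsgLib.CharApps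
open scoped ComplexConjugate

variable {G : Type*} [Group G] [Fintype G] {t : G} {M : Ideal AlgInt} [M.IsPrime]
  [Fact (Nat.Prime 2)]

namespace OctCent

variable (D : OctCent t)

include D in
/-- A character trivial on the core lies in the principal block of the centralizer. -/
theorem mem_principalBlock_of_trivial [Fintype (tCen t)] (hM : IsPModular 2 M)
    (ξ : IrrCharacter (tCen t))
    (hξ : ∀ n ∈ oddCore (tCen t), (ξ : tCen t → ℂ) n = (ξ : tCen t → ℂ) 1) :
    ξ ∈ principalBlock M (tCen t) := by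
  classical
  haveI := Fintype.ofFinite (tCen t ⧸ oddCore (tCen t))
  haveI := Fintype.ofFinite D.Sb
  haveI := D.quot.normal
  -- the degree is odd
  obtain ⟨ψ, hψ, hξψ⟩ := exists_deflate_irr (oddCore (tCen t)) ξ.2 hξ
  obtain ⟨k, hk, hkd⟩ := CharsMore.ito_degree_dvd D.Sb D.quot.comm hψ
  rw [D.quot.index] at hkd
  have hdk : (ξ : tCen t → ℂ) 1 = (k : ℂ) := by rw [hξψ]; exact hk
  by_contra hne
  set B := blockOf M (ξ : tCen t → ℂ) with hBdef
  have hB : IsPBlock M B := isPBlock_blockOf ξ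
  have hnp : principal (tCen t) ∉ B := fun h => hne (SameBlock.symm h)
  set c := blockCoeff B with hc
  have hsum : ∑ g, c g * (ξ : tCen t → ℂ) g = (k : ℂ) := by
    have h := omega_blockCoeff B ξ
    rw [if_pos (mem_blockOf_self ξ), omega, hdk] at h
    rcases eq_or_ne (k : ℂ) 0 with hk0 | hk0
    · rw [hk0, div_zero] at h
      exact absurd h zero_ne_one
    · exact (div_eq_one_iff_eq hk0).1 h
  have hsum0 : ∑ g, c g = 0 := by
    have h := omega_blockCoeff B (principal (tCen t))
    rwa [if_neg hnp, omega_principal] at h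
  have hT : ∑ g, c g * ((ξ : tCen t → ℂ) g - (k : ℂ)) = (k : ℂ) := by
    simp only [mul_sub, Finset.sum_sub_distrib, hsum, ← Finset.sum_mul, hsum0, zero_mul, sub_zero]
  -- a lift of an involution outside the centre
  obtain ⟨sb, hsb, hsb1, hsbt⟩ : ∃ s ∈ D.Sb, s ≠ 1 ∧
      s ≠ ((tEl t : tCen t) : tCen t ⧸ oddCore (tCen t)) := by
    by_contra hno
    push Not at hno
    have hsub : (Finset.univ.filter (· ∈ D.Sb)) ⊆
        {1, ((tEl t : tCen t) : tCen t ⧸ oddCore (tCen t))} := by
      intro s hs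
      rw [Finset.mem_filter] at hs
      by_cases h1 : s = 1
      · simp [h1]
      · simp [hno s hs.2 h1]
    have h8 := (Finset.card_le_card hsub).trans Finset.card_le_two
    rw [← Fintype.card_subtype, ← Nat.card_eq_fintype_card] at h8
    have := D.quot.card
    omega
  obtain ⟨s₀, rfl⟩ := QuotientGroup.mk_surjective sb
  set s := s₀ ^ Nat.card (oddCore (tCen t)) with hs
  have hsmk : (s : tCen t ⧸ oddCore (tCen t)) = (s₀ : tCen t ⧸ oddCore (tCen t)) := by
    obtain ⟨m, hm⟩ := odd_card_oddCore (tCen t)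
    rw [hs, QuotientGroup.mk_pow, hm, pow_succ, pow_mul, sq, D.quot.sq _ hsb, one_pow, one_mul]
  have hss : s * s = 1 := by
    have h2 : s₀ * s₀ ∈ oddCore (tCen t) := by
      rw [← QuotientGroup.eq_one_iff, QuotientGroup.mk_mul]; exact D.quot.sq _ hsb
    rw [hs, ← (Commute.refl s₀).mul_pow]
    exact congrArg Subtype.val (pow_card_eq_one' (x := (⟨s₀ * s₀, h2⟩ : oddCore (tCen t))))
  have hsi : s⁻¹ = s := inv_eq_of_mul_eq_one_right hss
  set U : Finset (tCen t) :=
    Finset.univ.filter fun g => g ∉ oddCore (tCen t) ∧ ¬ 2 ∣ orderOf g with hU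
  have hconjU : ∀ g ∈ U, s * g * s⁻¹ ∈ U := by
    intro g hg
    rw [hU, Finset.mem_filter] at hg ⊢
    refine ⟨Finset.mem_univ _, fun h => hg.2.1 ?_, ?_⟩
    · have := (inferInstance : (oddCore (tCen t)).Normal).conj_mem _ h s⁻¹
      simpa [mul_assoc] using this
    · rw [← MulAut.conj_apply, MulEquiv.orderOf_eq]; exact hg.2.2
  have hfree : ∀ g ∈ U, s * g * s⁻¹ ≠ g := by
    intro g hg hfix
    rw [hU, Finset.mem_filter] at hg
    obtain ⟨-, hgO, hgo⟩ := hg
    have hcomm : (g : tCen t ⧸ oddCore (tCen t)) * s = s * g := by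
      rw [← QuotientGroup.mk_mul, ← QuotientGroup.mk_mul, mul_inv_eq_iff_eq_mul.1 hfix]
    rw [hsmk] at hcomm
    by_cases hgS : (g : tCen t ⧸ oddCore (tCen t)) ∈ D.Sb
    · have h2 : (g : tCen t ⧸ oddCore (tCen t)) ^ 2 = 1 := by rw [sq]; exact D.quot.sq _ hgS
      have hd : orderOf (g : tCen t ⧸ oddCore (tCen t)) ∣ Nat.gcd 2 (orderOf g) :=
        Nat.dvd_gcd (orderOf_dvd_of_pow_eq_one h2)
          (orderOf_map_dvd (QuotientGroup.mk' (oddCore (tCen t))) g)
      rw [(Nat.prime_two.coprime_iff_not_dvd.2 hgo).gcd_eq_one, Nat.dvd_one,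
        orderOf_eq_one_iff, QuotientGroup.eq_one_iff] at hd
      exact hgO hd
    · rcases D.quot.fix_of_notMem hgS hsb hcomm with h | h
      · exact hsb1 h
      · exact hsbt h
  -- pairing
  let e := Fintype.equivFin (tCen t)
  set f : tCen t → ℂ := fun g => c g * ((ξ : tCen t → ℂ) g - (k : ℂ)) with hf
  have hfconj : ∀ g, f (s * g * s⁻¹) = f g := fun g => by
    simp only [hf, hc, isClassFunction_blockCoeff B g s, isClassFunction_irr ξ g s]
  have hrestr : ∑ g, f g = ∑ g ∈ U, f g := by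
    refine (Finset.sum_subset (Finset.subset_univ U) fun g _ hg => ?_).symm
    rw [hU, Finset.mem_filter] at hg
    simp only [Finset.mem_univ, true_and, not_and_or, not_not] at hg
    rcases hg with hg | hg
    · simp only [hf]
      rw [hξ g hg, hdk, sub_self, mul_zero]
    · simp only [hf, hc]
      rw [blockCoeff_eq_zero_of_dvd Nat.prime_two hM.2.2 hB hg, zero_mul]
  set L := U.filter fun g => e g < e (s * g * s⁻¹) with hL
  have hinv : ∀ g : tCen t, s * (s * g * s⁻¹) * s⁻¹ = g := fun g => by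
    rw [hsi, ← mul_assoc, ← mul_assoc, hss, one_mul, mul_assoc, hss, mul_one]
  have hhalf : ∑ g ∈ U, f g = 2 * ∑ g ∈ L, f g := by
    rw [← Finset.sum_filter_add_sum_filter_not U (fun g => e g < e (s * g * s⁻¹)), two_mul, ← hL]
    congr 1
    refine Finset.sum_nbij' (fun g => s * g * s⁻¹) (fun g => s * g * s⁻¹) ?_ ?_
      (fun g _ => hinv g) (fun g _ => hinv g) (fun g _ => (hfconj g).symm)
    · intro g hg
      rw [Finset.mem_filter] at hg
      rw [hL, Finset.mem_filter, hinv]
      refine ⟨hconjU g hg.1, lt_of_le_of_ne (not_lt.1 hg.2) fun h => hfree g hg.1 ?_⟩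
      exact e.injective h
    · intro g hg
      rw [hL, Finset.mem_filter] at hg
      rw [Finset.mem_filter, hinv]
      exact ⟨hconjU g hg.1, not_lt.2 hg.2.le⟩
  have hT' : ∑ g, f g = (k : ℂ) := hT
  have hmem : MemLocalIdeal M (k : ℂ) := by
    rw [← hT', hrestr, hhalf]
    refine MemLocalIdeal.mul_right' ?_ (sum_mem fun g _ =>
      mul_mem (blockCoeff_mem_loc hB g) (sub_mem (irr_mem_loc ξ g) (natCast_mem_loc k)))
    exact_mod_cast (memLocalIdeal_natCast_iff Nat.prime_two hM.2.2 2).2 dvd_rfl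
  rw [memLocalIdeal_natCast_iff Nat.prime_two hM.2.2] at hmem
  rcases (Nat.dvd_prime (by norm_num : Nat.Prime 3)).1 hkd with rfl | rfl <;> norm_num at hmem

/-- Outside the principal block the sums over each fibre vanish. -/
theorem sum_fibre_eq_zero [Fintype (tCen t)] (hM : IsPModular 2 M) {χ : IrrCharacter G}
    (hχ : χ ∉ principalBlock M G) (k : ℕ)
    [DecidablePred fun c : tCen t => (c : tCen t ⧸ oddCore (tCen t)) = D.x ^ k] :
    ∑ c ∈ Finset.univ.filter (fun c : tCen t => (c : tCen t ⧸ oddCore (tCen t)) = D.x ^ k),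
      (χ : G → ℂ) (t * (c : G)) = 0 := by
  classical
  haveI := irrFintype (tCen t)
  set φ : tCen t → ℂ := fun c => (χ : G → ℂ) (t * (c : G)) with hφ
  have hφcl : IsClassFunction (tCen t) φ := isClassFunction_mul_left (isClassFunction_irr χ)
  have hzero : ∀ y : tCen t, ¬ 2 ∣ orderOf y →
      blockPart (principalBlock M (tCen t)) φ y = 0 := by
    intro y hy
    rw [hφ, ← blockPart_principalBlock_centralizer hM (isClassFunction_irr χ)
      ⟨1, by rw [D.ord, pow_one]⟩ hy, blockPart_eq_sum _ (isClassFunction_irr χ),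
      sum_mul_blockCoeff, if_neg hχ]
  set F : Finset (tCen t) :=
    Finset.univ.filter fun c : tCen t => (c : tCen t ⧸ oddCore (tCen t)) = D.x ^ k with hF
  show ∑ c ∈ F, φ c = 0
  obtain ⟨y₀, hy₀⟩ := QuotientGroup.mk_surjective (D.x ^ k)
  have hfib : ∀ ξ : IrrCharacter (tCen t), ξ ∉ principalBlock M (tCen t) →
      ∑ c ∈ F, (ξ : tCen t → ℂ) c = 0 := by
    intro ξ hξ
    have hω : omega (ξ : tCen t → ℂ) (avgInd (oddCore (tCen t))) = 0 :=
      (omega_avgInd_eq_zero_or_one _ ξ).resolve_right fun h =>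
        hξ (D.mem_principalBlock_of_trivial hM ξ ((omega_avgInd_eq_one_iff _ ξ).1 h))
    have h := sum_mul_irr ξ (isClassFunction_avgInd (oddCore (tCen t))) y₀
    rw [hω, zero_mul] at h
    simp only [avgInd_apply, ite_mul, zero_mul] at h
    rw [← Finset.sum_filter, ← Finset.mul_sum, mul_eq_zero] at h
    have h' := h.resolve_left (inv_ne_zero (Nat.cast_ne_zero.2 Nat.card_pos.ne'))
    rw [← h']
    refine Finset.sum_nbij' (fun c => c * y₀⁻¹) (fun g => g * y₀) ?_ ?_
      (fun c _ => inv_mul_cancel_right c y₀) (fun g _ => mul_inv_cancel_right g y₀)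
      (fun c _ => by rw [inv_mul_cancel_right])
    · intro c hc
      rw [hF, Finset.mem_filter] at hc
      rw [Finset.mem_filter, ← QuotientGroup.eq_one_iff, QuotientGroup.mk_mul,
        QuotientGroup.mk_inv, hc.2, hy₀, mul_inv_cancel]
      exact ⟨Finset.mem_univ _, rfl⟩
    · intro g hg
      rw [Finset.mem_filter] at hg
      rw [hF, Finset.mem_filter, QuotientGroup.mk_mul,
        (QuotientGroup.eq_one_iff g).2 hg.2, one_mul, hy₀]
      exact ⟨Finset.mem_univ _, rfl⟩
  have hreg : ∀ c ∈ F, ¬ 2 ∣ orderOf c := fun c hc => D.odd_order (Finset.mem_filter.1 hc).2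
  calc ∑ c ∈ F, φ c
      = ∑ c ∈ F, ∑ ξ : IrrCharacter (tCen t), classInner φ ξ * (ξ : tCen t → ℂ) c := by
        refine Finset.sum_congr rfl fun c _ => ?_
        conv_lhs => rw [classFun_eq_sum hφcl, Finset.sum_apply]
        simp only [Pi.smul_apply, smul_eq_mul]
    _ = ∑ ξ : IrrCharacter (tCen t), classInner φ ξ * ∑ c ∈ F, (ξ : tCen t → ℂ) c := by
        rw [Finset.sum_comm]; simp only [Finset.mul_sum]
    _ = ∑ ξ ∈ Finset.univ.filter (· ∈ principalBlock M (tCen t)),
          classInner φ ξ * ∑ c ∈ F, (ξ : tCen t → ℂ) c := by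
        refine (Finset.sum_filter_of_ne fun ξ _ h => ?_).symm
        by_contra hne
        exact h (by rw [hfib ξ hne, mul_zero])
    _ = ∑ c ∈ F, blockPart (principalBlock M (tCen t)) φ c := by
        simp only [blockPart_apply_eq_sum, Finset.mul_sum]
        rw [Finset.sum_comm]
    _ = 0 := Finset.sum_eq_zero fun c hc => hzero c (hreg c hc)

end OctCent

end CfsgLib.EightSolvCent
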