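import Mathlib

/-!
# The group `2 × A₄`
-/

set_option autoImplicit false

namespace CfsgLib.EightSolvCent

variable {Q : Type*} [Group Q]

/-- An abstract description of `2 × A₄`: `t` is the central involution, `x` has order three. -/
structure QuotData (Sb : Subgroup Q) (t x : Q) : Prop where
  normal : Sb.Normal
  comm : ∀ a ∈ Sb, ∀ b ∈ Sb, a * b = b * a
  sq : ∀ a ∈ Sb, a * a = 1
  card : Nat.card Sb = 8
  index : Sb.index = 3
  pow3 : x ^ 3 = 1
  notMem : x ∉ Sb
  tmem : t ∈ Sb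
  tne : t ≠ 1
  tcentral : ∀ g : Q, g * t = t * g
  fix : ∀ s ∈ Sb, x * s = s * x → s = 1 ∨ s = t

namespace QuotData

variable {Sb : Subgroup Q} {t x : Q} (h : QuotData Sb t x)
include h

theorem t_sq : t * t = 1 := h.sq t h.tmem

theorem pow_mem_iff (k : ℕ) : x ^ k ∈ Sb ↔ 3 ∣ k := by
  constructor
  · intro hk
    by_contra h3
    rw [← Nat.div_add_mod k 3, pow_add, pow_mul, h.pow3, one_pow, one_mul] at hk
    rcases (show k % 3 = 1 ∨ k % 3 = 2 by omega) with e | e <;> rw [e] at hk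
    · exact h.notMem (by simpa using hk)
    · refine h.notMem ?_
      have : x ^ 2 * x ^ 2 ∈ Sb := mul_mem hk hk
      rwa [← pow_add, show 2 + 2 = 3 + 1 from rfl, pow_add, h.pow3, one_mul, pow_one] at this
  · rintro ⟨j, rfl⟩
    rw [pow_mul, h.pow3, one_pow]
    exact one_mem _

theorem decomp (g : Q) : ∃ s ∈ Sb, ∃ k : ℕ, k < 3 ∧ g = s * x ^ k := by
  haveI := h.normal
  haveI : Fact (Nat.Prime 3) := ⟨by norm_num⟩
  have hc : Nat.card (Q ⧸ Sb) = 3 := by rw [← Subgroup.index_eq_card]; exact h.index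
  have hne : (x : Q ⧸ Sb) ≠ 1 := fun e => h.notMem ((QuotientGroup.eq_one_iff x).1 e)
  haveI : Finite (Q ⧸ Sb) := Nat.finite_of_card_ne_zero (by omega)
  obtain ⟨k, hk⟩ := (IsOfFinOrder.mem_powers_iff_mem_zpowers (isOfFinOrder_of_finite _)).2
    (mem_zpowers_of_prime_card hc hne (g' := (g : Q ⧸ Sb)))
  refine ⟨g * (x ^ (k % 3))⁻¹, ?_, k % 3, Nat.mod_lt _ (by norm_num), by group⟩
  rw [← QuotientGroup.eq_one_iff, QuotientGroup.mk_mul, QuotientGroup.mk_inv, mul_inv_eq_one]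
  rw [← Nat.div_add_mod k 3] at hk
  have hk' : (x : Q ⧸ Sb) ^ (3 * (k / 3) + k % 3) = (g : Q ⧸ Sb) := hk
  rw [← hk', pow_add, pow_mul, ← QuotientGroup.mk_pow, h.pow3, QuotientGroup.mk_one, one_pow,
    one_mul, QuotientGroup.mk_pow]

/-- The commutator subgroup lies in `Sb`. -/
theorem conj_mul_inv_mem (g : Q) (k : ℕ) : g * x ^ k * g⁻¹ * (x ^ k)⁻¹ ∈ Sb := by
  haveI := h.normal
  obtain ⟨s, hs, j, -, rfl⟩ := h.decomp g
  have e : s * x ^ j * x ^ k * (s * x ^ j)⁻¹ * (x ^ k)⁻¹ = s * (x ^ k * s⁻¹ * (x ^ k)⁻¹) := by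
    rw [mul_inv_rev, mul_assoc s, ← pow_add, add_comm, pow_add]
    group
  rw [e]
  exact mul_mem hs (h.normal.conj_mem _ (inv_mem hs) _)

/-- The centralizer of `x` is generated by `t` and `x`. -/
theorem centralizer_pow {g : Q} {k : ℕ} (hk : ¬ 3 ∣ k) (hg : g * x ^ k = x ^ k * g) :
    ∃ i j : ℕ, g = t ^ i * x ^ j := by
  obtain ⟨s, hs, j, -, rfl⟩ := h.decomp g
  have h1 : s * x ^ k = x ^ k * s := by
    apply mul_right_cancel (b := x ^ j)
    calc s * x ^ k * x ^ j = s * x ^ j * x ^ k := by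
          rw [mul_assoc, ← pow_add, add_comm, pow_add, ← mul_assoc]
      _ = x ^ k * (s * x ^ j) := hg
      _ = x ^ k * s * x ^ j := by rw [mul_assoc]
  have h2 : Commute (x ^ k) s := h1.symm
  have hx : x * s = s * x := by
    rcases (show k % 3 = 1 ∨ k % 3 = 2 by omega) with e | e
    · have : x ^ k = x := by
        rw [← Nat.div_add_mod k 3, pow_add, pow_mul, h.pow3, one_pow, one_mul, e, pow_one]
      rwa [this] at h2
    · have : (x ^ k) ^ 2 = x := by
        rw [← Nat.div_add_mod k 3, pow_add, pow_mul, h.pow3, one_pow, one_mul, e, ← pow_mul,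
          show 2 * 2 = 3 + 1 from rfl, pow_add, h.pow3, one_mul, pow_one]
      have h3 := h2.pow_left 2
      rwa [this] at h3
  rcases h.fix s hs hx with rfl | rfl
  · exact ⟨0, j, by simp⟩
  · exact ⟨1, j, by simp⟩

theorem conj_eq_of_mem_zpowers {g : Q} {k : ℕ} {l : ℕ} (hg : g * x ^ k * g⁻¹ = x ^ l) :
    x ^ k = x ^ l := by
  have h1 := h.conj_mul_inv_mem g k
  rw [hg] at h1
  have h2 : x ^ (l + 2 * k) ∈ Sb := by
    have : (x ^ k)⁻¹ = x ^ (2 * k) := inv_eq_of_mul_eq_one_right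
      (by rw [← pow_add, show k + 2 * k = 3 * k by omega, pow_mul, h.pow3, one_pow])
    rw [this, ← pow_add] at h1
    exact h1
  rw [h.pow_mem_iff] at h2
  rw [← Nat.div_add_mod l 3, ← Nat.div_add_mod k 3, pow_add, pow_add, pow_mul, pow_mul, h.pow3,
    one_pow, one_pow, show l % 3 = k % 3 by omega]

/-- No element conjugates a power of `x` to its inverse. -/
theorem not_inverted {g : Q} {k : ℕ} (hk : ¬ 3 ∣ k) : g * x ^ k * g⁻¹ ≠ (x ^ k)⁻¹ := by
  intro hg
  have e : (x ^ k)⁻¹ = x ^ (2 * k) := inv_eq_of_mul_eq_one_right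
    (by rw [← pow_add, show k + 2 * k = 3 * k by omega, pow_mul, h.pow3, one_pow])
  rw [e] at hg
  have h1 := h.conj_eq_of_mem_zpowers hg
  apply hk
  rw [← h.pow_mem_iff]
  have : x ^ k = 1 := by
    rw [show 2 * k = k + k by omega, pow_add] at h1
    exact (left_eq_mul.1 h1)
  rw [this]
  exact one_mem _

/-- An element outside `Sb` commutes only with `1` and `t` inside `Sb`. -/
theorem fix_of_notMem {g s : Q} (hg : g ∉ Sb) (hs : s ∈ Sb) (hgs : g * s = s * g) :
    s = 1 ∨ s = t := by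
  obtain ⟨r, hr, k, hk3, rfl⟩ := h.decomp g
  have hk : k ≠ 0 := by rintro rfl; exact hg (by simpa using hr)
  have h1 : x ^ k * s = s * x ^ k := by
    apply mul_left_cancel (a := r)
    rw [← mul_assoc, hgs, ← mul_assoc, ← mul_assoc, h.comm s hs r hr]
  refine h.fix s hs ?_
  rcases (show k = 1 ∨ k = 2 by omega) with rfl | rfl
  · simpa using h1
  · have h2 : Commute (x ^ 2) s := h1
    have h3 := h2.pow_left 2
    rwa [← pow_mul, show 2 * 2 = 3 + 1 from rfl, pow_add, h.pow3, one_mul, pow_one] at h3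

end QuotData

end CfsgLib.EightSolvCent
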