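import Cfsg.Prelude.Def_CaseTheorems
import Cfsg.Agent.Lib.Base.Cores
import Cfsg.Agent.Lib.Base.MinimalNormal
import Cfsg.Agent.Lib.EightSolvCent.Aut
import Cfsg.Agent.Lib.EightSolvCent.Quot

/-!
# Solvable involution centralizers over an elementary abelian Sylow subgroup of order eight
-/

set_option autoImplicit false

namespace CfsgLib.EightSolvCent

open Cfsg CfsgLib.Base

variable {G : Type*} [Group G]

/-- The centralizer of an element. -/
abbrev tCen (t : G) : Subgroup G := Subgroup.centralizer ({t} : Set G)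

/-- `t` as an element of its centralizer. -/
def tEl (t : G) : tCen t := ⟨t, Subgroup.mem_centralizer_singleton_iff.2 rfl⟩

/-- An involution whose centralizer is `2 × A₄` modulo the core, in a group in which the seven
involutions of a Sylow subgroup are conjugate. -/
structure OctCent [Finite G] (t : G) where
  ord : orderOf t = 2
  S : Subgroup G
  card_S : Nat.card S = 8
  conj_S : ∀ s ∈ S, s ≠ 1 → IsConj t s
  Sb : Subgroup (tCen t ⧸ oddCore (tCen t))
  x : tCen t ⧸ oddCore (tCen t)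
  quot : QuotData Sb (QuotientGroup.mk (tEl t)) x

theorem tEl_central (t : G) (c : tCen t) : c * tEl t = tEl t * c :=
  Subtype.ext (Subgroup.mem_centralizer_singleton_iff.1 c.2)

theorem commutator_eq_one_of_mk [Finite G] {t : G} {T : Subgroup (tCen t)}
    (hT : Disjoint T (oddCore (tCen t))) {n s : tCen t} (hn : n * s * n⁻¹ ∈ T) (hs : s ∈ T)
    (h : (n : tCen t ⧸ oddCore (tCen t)) * (s : tCen t ⧸ oddCore (tCen t)) =
      (s : tCen t ⧸ oddCore (tCen t)) * (n : tCen t ⧸ oddCore (tCen t))) : n * s = s * n := by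
  have h1 : n * s * n⁻¹ * s⁻¹ ∈ oddCore (tCen t) := by
    rw [← QuotientGroup.eq_one_iff, QuotientGroup.mk_mul, QuotientGroup.mk_mul,
      QuotientGroup.mk_mul, QuotientGroup.mk_inv, QuotientGroup.mk_inv, h, mul_inv_cancel_right,
      mul_inv_cancel]
  have h2 := Subgroup.disjoint_def.1 hT (mul_mem hn (inv_mem hs)) h1
  rwa [mul_inv_eq_one, mul_inv_eq_iff_eq_mul] at h2

variable [Finite G] (P : Sylow 2 G) (hP : Cfsg.IsElementaryAbelian 2 (P : Subgroup G))
  (hP8 : Nat.card (P : Subgroup G) = 8)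

include hP hP8

/-- The configuration at an involution of the Sylow subgroup, given the shape of the automizer. -/
theorem exists_octCent {t : G} (htP : t ∈ (P : Subgroup G)) (ht : orderOf t = 2)
    (hsol : Group.IsSolvable (tCen t))
    (htrans : ∀ v w : (P : Subgroup G), v ≠ 1 → w ≠ 1 →
      ∃ a : ((P : Subgroup G).normalizerMonoidHom).range, a • v = w)
    (hstab : ∀ v : (P : Subgroup G), v ≠ 1 →
      Nat.card (MulAction.stabilizer ((P : Subgroup G).normalizerMonoidHom).range v) = 3)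
    (hodd : Odd (Nat.card ((P : Subgroup G).normalizerMonoidHom).range)) :
    Nonempty (OctCent t) := by
  classical
  haveI : Fact (Nat.Prime 2) := ⟨Nat.prime_two⟩
  have hcomm : ∀ a ∈ (P : Subgroup G), ∀ b ∈ (P : Subgroup G), a * b = b * a := fun a ha b hb =>
    congrArg Subtype.val (hP.1.is_comm.comm ⟨a, ha⟩ ⟨b, hb⟩)
  have hsqP : ∀ a ∈ (P : Subgroup G), a * a = 1 := fun a ha => by rw [← sq]; exact hP.2 a ha
  have hle : (P : Subgroup G) ≤ tCen t := fun s hs =>
    Subgroup.mem_centralizer_singleton_iff.2 (hcomm s hs t htP)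
  haveI : Group.IsSolvable (tCen t) := hsol
  set T : Sylow 2 (tCen t) := P.subtype hle with hTdef
  have hTmem : ∀ c : tCen t, c ∈ (T : Subgroup (tCen t)) ↔ (c : G) ∈ (P : Subgroup G) :=
    fun c => by rw [hTdef, Sylow.coe_subtype, Subgroup.mem_subgroupOf]
  have hT8 : Nat.card (T : Subgroup (tCen t)) = 8 := by
    rw [hTdef, Sylow.coe_subtype, Nat.card_congr (Subgroup.subgroupOfEquivOfLe hle).toEquiv, hP8]
  have hdis : Disjoint (T : Subgroup (tCen t)) (oddCore (tCen t)) := by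
    rw [disjoint_iff]
    refine Subgroup.inf_eq_bot_of_coprime ?_
    rw [hT8, show (8 : ℕ) = 2 ^ 3 from rfl]
    exact Nat.Coprime.pow_left 3 (Nat.coprime_two_left.2 (odd_card_oddCore (tCen t)))
  set π := QuotientGroup.mk' (oddCore (tCen t)) with hπ
  have hπsur : Function.Surjective π := QuotientGroup.mk'_surjective _
  set SQ : Sylow 2 (tCen t ⧸ oddCore (tCen t)) := T.mapSurjective hπsur with hSQ
  set Sb : Subgroup (tCen t ⧸ oddCore (tCen t)) := (SQ : Subgroup (tCen t ⧸ oddCore (tCen t))) with hSb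
  have hSbmap : Sb = (T : Subgroup (tCen t)).map π := rfl
  have hinj : ∀ a ∈ (T : Subgroup (tCen t)), ∀ b ∈ (T : Subgroup (tCen t)), π a = π b → a = b := by
    intro a ha b hb hab
    have h1 : a⁻¹ * b ∈ oddCore (tCen t) := QuotientGroup.eq.1 hab
    exact inv_mul_eq_one.1 (Subgroup.disjoint_def.1 hdis (mul_mem (inv_mem ha) hb) h1)
  have hSbcard : Nat.card Sb = 8 := by
    rw [hSbmap, ← hT8]
    refine (Nat.card_congr (Equiv.ofBijective
      (fun a : (T : Subgroup (tCen t)) => (⟨π a, a, a.2, rfl⟩ : (T : Subgroup (tCen t)).map π))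
      ⟨fun a b hab => Subtype.ext (hinj a a.2 b b.2 (congrArg Subtype.val hab)), ?_⟩)).symm
    rintro ⟨q, c, hc, rfl⟩
    exact ⟨⟨c, hc⟩, rfl⟩
  have hSbcomm : ∀ a ∈ Sb, ∀ b ∈ Sb, a * b = b * a := by
    rintro _ ⟨a, ha, rfl⟩ _ ⟨b, hb, rfl⟩
    rw [← map_mul, ← map_mul, show a * b = b * a from
      Subtype.ext (hcomm _ ((hTmem a).1 ha) _ ((hTmem b).1 hb))]
  have hSbsq : ∀ a ∈ Sb, a * a = 1 := by
    rintro _ ⟨a, ha, rfl⟩
    rw [← map_mul, show a * a = 1 from Subtype.ext (hsqP _ ((hTmem a).1 ha)), map_one]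
  -- the Sylow subgroup is normal and self-centralizing modulo the core
  have hcore : pPrimeCore 2 (tCen t ⧸ oddCore (tCen t)) = ⊥ :=
    pPrimeCore_quotient_pPrimeCore 2 (tCen t)
  have hself := centralizer_pCore_le_of_isSolvable hcore
  have hcoreSb : pCore 2 (tCen t ⧸ oddCore (tCen t)) = Sb := by
    refine le_antisymm (pCore_le_sylow SQ) (le_trans ?_ hself)
    intro a ha
    exact Subgroup.mem_centralizer_iff.2 fun b hb => hSbcomm b (pCore_le_sylow SQ hb) a ha
  have hnormal : Sb.Normal := by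
    rw [← hcoreSb]; infer_instance
  have hcent : Subgroup.centralizer (Sb : Set _) ≤ Sb := by rwa [hcoreSb] at hself
  -- lifting to the normalizer of the Sylow subgroup
  have hlift : ∀ q : tCen t ⧸ oddCore (tCen t), ∃ n : tCen t,
      n ∈ Subgroup.normalizer ((T : Subgroup (tCen t)) : Set (tCen t)) ∧ π n = q := by
    intro q
    set N := Sb.comap π with hN
    haveI : N.Normal := hnormal.comap π
    have hTN : (T : Subgroup (tCen t)) ≤ N := Subgroup.le_comap_map _ _
    have hfr := Sylow.normalizer_sup_eq_top (T.subtype hTN)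
    rw [Sylow.coe_subtype, Subgroup.map_subgroupOf_eq_of_le hTN] at hfr
    obtain ⟨c, rfl⟩ := hπsur q
    have hc : c ∈ Subgroup.normalizer ((T : Subgroup (tCen t)) : Set (tCen t)) ⊔ N := by
      rw [hfr]; exact Subgroup.mem_top c
    obtain ⟨n, hn, m, hm, rfl⟩ := Subgroup.mem_sup_of_normal_right.1 hc
    obtain ⟨s, hs, hsm⟩ := (show π m ∈ (T : Subgroup (tCen t)).map π from hm)
    exact ⟨n * s, mul_mem hn (Subgroup.le_normalizer hs), by rw [map_mul, map_mul, hsm]⟩
  have hnorm : ∀ n : tCen t, n ∈ Subgroup.normalizer ((T : Subgroup (tCen t)) : Set (tCen t)) →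
      (n : G) ∈ Subgroup.normalizer ((P : Subgroup G) : Set G) := by
    intro n hn
    rw [Subgroup.mem_normalizer_iff]
    intro w
    constructor
    · intro hw
      exact (hTmem _).1 ((Subgroup.mem_normalizer_iff.1 hn ⟨w, hle hw⟩).1 ((hTmem _).2 hw))
    · intro hw
      have hwC : w ∈ tCen t := by
        have := mul_mem (mul_mem (inv_mem n.2) (hle hw)) n.2
        simpa [mul_assoc] using this
      exact (hTmem ⟨w, hwC⟩).1
        ((Subgroup.mem_normalizer_iff.1 hn ⟨w, hwC⟩).2 ((hTmem _).2 hw))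
  set A := ((P : Subgroup G).normalizerMonoidHom).range with hA
  have hsqS : ∀ s : (P : Subgroup G), s * s = 1 := fun s => Subtype.ext (hsqP s s.2)
  set v : (P : Subgroup G) := ⟨t, htP⟩ with hv
  have hv1 : v ≠ 1 := fun e => by
    rw [show t = 1 from congrArg Subtype.val e, orderOf_one] at ht
    norm_num at ht
  set K := MulAction.stabilizer A v with hK
  -- the automorphism induced by a lift
  let φ : (n : tCen t) → n ∈ Subgroup.normalizer ((T : Subgroup (tCen t)) : Set (tCen t)) → A :=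
    fun n hn => ⟨(P : Subgroup G).normalizerMonoidHom ⟨n, hnorm n hn⟩, ⟨_, rfl⟩⟩
  have hφapply : ∀ n hn (s : (P : Subgroup G)),
      ((φ n hn • s : (P : Subgroup G)) : G) = (n : G) * s * (n : G)⁻¹ := fun n hn s => rfl
  have hφK : ∀ n hn, φ n hn ∈ K := by
    intro n hn
    apply Subtype.ext
    rw [hφapply n hn]
    show (n : G) * t * (n : G)⁻¹ = t
    rw [Subgroup.mem_centralizer_singleton_iff.1 n.2, mul_inv_cancel_right]
  -- a lift acts trivially exactly when it lies in `Sb`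
  have hker : ∀ n hn, φ n hn = 1 → π n ∈ Sb := by
    intro n hn h1
    refine hcent (Subgroup.mem_centralizer_iff.2 ?_)
    rintro _ ⟨s, hs, rfl⟩
    rw [← map_mul, ← map_mul]
    congr 1
    apply Subtype.ext
    have h2 := congrArg Subtype.val (congrArg (fun a : A => a • (⟨(s : G), (hTmem s).1 hs⟩ :
      (P : Subgroup G))) h1)
    rw [hφapply n hn, one_smul] at h2
    show (s : G) * n = n * s
    exact (mul_inv_eq_iff_eq_mul.1 h2).symm
  -- a generator of the stabilizer
  have hK3 : Nat.card K = 3 := hstab v hv1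
  obtain ⟨a, ha⟩ := exists_prime_orderOf_dvd_card' (G := K) 3 (by rw [hK3])
  obtain ⟨⟨m, hm⟩, hma⟩ := (a : A).2
  have hmC : m ∈ tCen t := by
    have h1 : ((a : A) • v : (P : Subgroup G)) = v := a.2
    have h2 := congrArg Subtype.val h1
    have h3 : ((a : A) • v : (P : Subgroup G)) =
        (P : Subgroup G).normalizerMonoidHom ⟨m, hm⟩ v := by rw [hma]; rfl
    rw [h3] at h2
    exact Subgroup.mem_centralizer_singleton_iff.2 (mul_inv_eq_iff_eq_mul.1 h2)
  have hmN : (⟨m, hmC⟩ : tCen t) ∈ Subgroup.normalizer ((T : Subgroup (tCen t)) : Set (tCen t)) :=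
    Subgroup.mem_normalizer_iff.2 fun w => by
      rw [hTmem, hTmem]
      exact Subgroup.mem_normalizer_iff.1 hm (w : G)
  set n₀ : tCen t := ⟨m, hmC⟩ with hn₀
  have hφ₀ : φ n₀ hmN = (a : A) := Subtype.ext hma
  set y := π n₀ with hy
  have hφpow : ∀ (i : ℕ) (hn : n₀ ^ i ∈ Subgroup.normalizer ((T : Subgroup (tCen t)) : Set (tCen t))),
      φ (n₀ ^ i) hn = (a : A) ^ i := by
    intro i hn
    rw [← hφ₀]
    apply Subtype.ext
    show (P : Subgroup G).normalizerMonoidHom _ = _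
    refine Eq.trans ?_ (SubmonoidClass.coe_pow (φ n₀ hmN) i).symm
    show _ = ((P : Subgroup G).normalizerMonoidHom ⟨n₀, hnorm n₀ hmN⟩) ^ i
    rw [← map_pow]
    exact congrArg _ (Subtype.ext rfl)
  have hy3 : y ^ 3 ∈ Sb := by
    rw [hy, ← map_pow]
    refine hker _ (pow_mem hmN 3) ?_
    rw [hφpow 3 (pow_mem hmN 3)]
    apply Subtype.ext
    have : a ^ 3 = 1 := by rw [← ha]; exact pow_orderOf_eq_one a
    exact congrArg (fun b : K => (((b : A) : MulAut (P : Subgroup G)))) this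
  -- every element is in `Sb ⟨y⟩`
  have hgen : ∀ q : tCen t ⧸ oddCore (tCen t), ∃ k : ℕ, q * (y ^ k)⁻¹ ∈ Sb := by
    intro q
    obtain ⟨n, hn, rfl⟩ := hlift q
    have hcK : Nat.card (Subgroup.zpowers a) = Nat.card K := by rw [Nat.card_zpowers, ha, hK3]
    have hmem : (⟨φ n hn, hφK n hn⟩ : K) ∈ Subgroup.zpowers a := by
      rw [Subgroup.eq_top_of_card_eq _ hcK]; exact Subgroup.mem_top _
    obtain ⟨k, hk⟩ := (IsOfFinOrder.mem_powers_iff_mem_zpowers (isOfFinOrder_of_finite a)).2 hmem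
    refine ⟨k, ?_⟩
    rw [hy, ← map_pow, ← map_inv, ← map_mul]
    refine hker _ (mul_mem hn (inv_mem (pow_mem hmN k))) ?_
    have e1 : φ (n * (n₀ ^ k)⁻¹) (mul_mem hn (inv_mem (pow_mem hmN k))) =
        φ n hn * (φ (n₀ ^ k) (pow_mem hmN k))⁻¹ := by
      apply Subtype.ext
      show (P : Subgroup G).normalizerMonoidHom _ = _
      show _ = (P : Subgroup G).normalizerMonoidHom ⟨n, hnorm n hn⟩ *
        ((P : Subgroup G).normalizerMonoidHom ⟨(n₀ ^ k : tCen t), hnorm _ (pow_mem hmN k)⟩)⁻¹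
      rw [← map_inv, ← map_mul]
      rfl
    rw [e1, hφpow k (pow_mem hmN k), mul_inv_eq_one]
    have hk' : (a : K) ^ k = ⟨φ n hn, hφK n hn⟩ := hk
    exact (congrArg (fun b : K => (b : A)) hk').symm
  have hyfix : ∀ s ∈ Sb, y * s = s * y → s = 1 ∨ s = π (tEl t) := by
    rintro _ ⟨s, hs, rfl⟩ hys
    have h1 : n₀ * s = s * n₀ := commutator_eq_one_of_mk hdis
      ((Subgroup.mem_normalizer_iff.1 hmN s).1 hs) hs hys
    have h2 : (φ n₀ hmN) • (⟨(s : G), (hTmem s).1 hs⟩ : (P : Subgroup G)) =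
        ⟨(s : G), (hTmem s).1 hs⟩ := Subtype.ext (by
      rw [hφapply n₀ hmN]
      show m * (s : G) * m⁻¹ = s
      exact mul_inv_eq_iff_eq_mul.2 (congrArg Subtype.val h1))
    by_contra hno
    push Not at hno
    have h3 : (φ n₀ hmN) = 1 := eq_one_of_fix_two hP8 hsqS A hodd hv1
      (w := ⟨(s : G), (hTmem s).1 hs⟩)
      (fun e => hno.1 (by rw [show s = 1 from Subtype.ext (congrArg Subtype.val e :), map_one]))
      (fun e => hno.2 (congrArg π (Subtype.ext (congrArg Subtype.val e.symm :) : s = tEl t)))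
      (hφK n₀ hmN) h2
    rw [hφ₀] at h3
    rw [show a = 1 from Subtype.ext h3, orderOf_one] at ha
    norm_num at ha
  have hynot : y ∉ Sb := by
    intro hyS
    have hall : Sb ≤ Subgroup.zpowers (π (tEl t)) := by
      intro s hs
      rcases hyfix s hs (hSbcomm y hyS s hs) with rfl | rfl
      · exact one_mem _
      · exact Subgroup.mem_zpowers _
    have h1 : Nat.card (Subgroup.zpowers (π (tEl t))) ∣ 2 := by
      rw [Nat.card_zpowers]
      exact (orderOf_map_dvd π (tEl t)).trans (dvd_of_eq (show orderOf (tEl t) = 2 by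
        rw [← ht]; exact Subgroup.orderOf_mk t _))
    have h2 := (Subgroup.card_dvd_of_le hall).trans h1
    rw [hSbcard] at h2
    norm_num at h2
  -- the index
  haveI := hnormal
  have hy3q : (y : (tCen t ⧸ oddCore (tCen t)) ⧸ Sb) ^ 3 = 1 := by
    rw [← QuotientGroup.mk_pow, QuotientGroup.eq_one_iff]; exact hy3
  have hord : orderOf (y : (tCen t ⧸ oddCore (tCen t)) ⧸ Sb) = 3 := by
    haveI : Fact (Nat.Prime 3) := ⟨by norm_num⟩
    exact orderOf_eq_prime hy3q fun e => hynot ((QuotientGroup.eq_one_iff y).1 e)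
  have hidx : Sb.index = 3 := by
    rw [Subgroup.index_eq_card, ← hord, ← Nat.card_zpowers]
    refine Nat.card_congr (Equiv.ofBijective (fun q => (⟨q, ?_⟩ : Subgroup.zpowers _))
      ⟨fun a b hab => congrArg Subtype.val hab, fun q => ⟨q, rfl⟩⟩)
    obtain ⟨q, rfl⟩ := QuotientGroup.mk_surjective q
    obtain ⟨k, hk⟩ := hgen q
    refine ⟨(k : ℤ), ?_⟩
    show (y : (tCen t ⧸ oddCore (tCen t)) ⧸ Sb) ^ (k : ℤ) = _
    rw [zpow_natCast, ← QuotientGroup.mk_pow, eq_comm, ← mul_inv_eq_one, ← QuotientGroup.mk_inv,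
      ← QuotientGroup.mk_mul, QuotientGroup.eq_one_iff]
    exact hk
  have hy6 : y ^ 6 = 1 := by
    rw [show 6 = 3 + 3 from rfl, pow_add, hSbsq _ hy3]
  refine ⟨⟨ht, (P : Subgroup G), hP8, ?_, Sb, y ^ 4, ⟨hnormal, hSbcomm, hSbsq, hSbcard, hidx,
    ?_, ?_, ⟨tEl t, (hTmem _).2 htP, rfl⟩, ?_, ?_, ?_⟩⟩⟩
  · intro s hs hs1
    obtain ⟨⟨b, ⟨c, hc⟩, rfl⟩, hb⟩ := htrans v ⟨s, hs⟩ hv1 (fun e => hs1 (congrArg Subtype.val e))
    exact isConj_iff.2 ⟨c, congrArg Subtype.val hb⟩
  · rw [← pow_mul, show 4 * 3 = 6 * 2 from rfl, pow_mul, hy6, one_pow]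
  · intro h4
    apply hynot
    have := mul_mem h4 (inv_mem hy3)
    rwa [show y ^ 4 = y * y ^ 3 by rw [← pow_succ'], mul_inv_cancel_right] at this
  · intro e
    have h1 : tEl t = 1 := hinj _ ((hTmem _).2 htP) _ (one_mem _) (by rw [map_one]; exact e)
    exact hv1 (Subtype.ext (congrArg Subtype.val h1 :))
  · intro q
    obtain ⟨c, rfl⟩ := hπsur q
    show π c * π (tEl t) = π (tEl t) * π c
    rw [← map_mul, ← map_mul, tEl_central]
  · intro s hs hs4
    refine hyfix s hs ?_
    have h3 : Commute (y ^ 3) s := hSbcomm _ hy3 s hs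
    have h7 := h3.inv_left.mul_left (show Commute (y ^ 4) s from hs4)
    rwa [show (y ^ 3)⁻¹ * y ^ 4 = y by rw [inv_mul_eq_iff_eq_mul, ← pow_succ]] at h7

end CfsgLib.EightSolvCent
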