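import Cfsg.Agent.Lib.EightSolvCent.Cent

/-!
# Elements of the centralizer lying over powers of the element of order three
-/

set_option autoImplicit false

namespace CfsgLib.EightSolvCent

open Cfsg CfsgLib.Base

variable {G : Type*} [Group G] [Finite G] {t : G}

namespace OctCent

variable (D : OctCent t)

/-- An odd exponent. -/
noncomputable def expo (_D : OctCent t) : ℕ := 3 * Nat.card (oddCore (tCen t))

theorem odd_expo : Odd D.expo := (by decide : Odd 3).mul (odd_card_oddCore (tCen t))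

theorem pow_expo {y : tCen t} {k : ℕ}
    (hy : (y : tCen t ⧸ oddCore (tCen t)) = D.x ^ k) : y ^ D.expo = 1 := by
  have h3 : y ^ 3 ∈ oddCore (tCen t) := by
    rw [← QuotientGroup.eq_one_iff, QuotientGroup.mk_pow, hy, ← pow_mul, mul_comm, pow_mul,
      D.quot.pow3, one_pow]
  rw [expo, pow_mul]
  exact congrArg Subtype.val (pow_card_eq_one' (x := (⟨y ^ 3, h3⟩ : oddCore (tCen t))))

theorem odd_order {y : tCen t} {k : ℕ}
    (hy : (y : tCen t ⧸ oddCore (tCen t)) = D.x ^ k) : ¬ 2 ∣ orderOf y := by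
  rw [← even_iff_two_dvd, Nat.not_even_iff_odd]
  exact D.odd_expo.of_dvd_nat (orderOf_dvd_of_pow_eq_one (D.pow_expo hy))

theorem t_sq (D : OctCent t) : t * t = 1 := by
  rw [← pow_two, ← D.ord, pow_orderOf_eq_one]

/-- The `2`-part of `t y`. -/
theorem mul_pow_expo {y : tCen t} {k : ℕ}
    (hy : (y : tCen t ⧸ oddCore (tCen t)) = D.x ^ k) : (t * (y : G)) ^ D.expo = t := by
  have hc : Commute t (y : G) := (Subgroup.mem_centralizer_singleton_iff.1 y.2).symm
  obtain ⟨m, hm⟩ := D.odd_expo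
  rw [hc.mul_pow, show (y : G) ^ D.expo = ((y ^ D.expo : tCen t) : G) from
    (SubmonoidClass.coe_pow y _).symm, D.pow_expo hy, Subgroup.coe_one, mul_one, hm, pow_succ,
    pow_mul, sq, D.t_sq, one_pow, one_mul]

/-- An element conjugating one `t y` to another centralizes `t`. -/
theorem mem_of_conj {y y' : tCen t} {k k' : ℕ} {u : G}
    (hy : (y : tCen t ⧸ oddCore (tCen t)) = D.x ^ k)
    (hy' : (y' : tCen t ⧸ oddCore (tCen t)) = D.x ^ k')
    (h : u⁻¹ * (t * (y : G)) * u = t * (y' : G)) : u ∈ tCen t := by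
  have h1 := congrArg (fun g : G => g ^ D.expo) h
  rw [D.mul_pow_expo hy', show u⁻¹ * (t * (y : G)) * u = u⁻¹ * (t * (y : G)) * (u⁻¹)⁻¹ by rw [inv_inv],
    conj_pow, D.mul_pow_expo hy, inv_inv, mul_assoc, inv_mul_eq_iff_eq_mul] at h1
  exact Subgroup.mem_centralizer_singleton_iff.2 h1.symm

/-- No involution inverts `t y` when `y` lies over `x`. -/
theorem not_inverts {y : tCen t} {a : G} (hy : (y : tCen t ⧸ oddCore (tCen t)) = D.x) :
    a * (t * (y : G)) * a⁻¹ ≠ (t * (y : G))⁻¹ := by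
  intro h
  have hy1 : (y : tCen t ⧸ oddCore (tCen t)) = D.x ^ 1 := by rw [pow_one]; exact hy
  have h1 := congrArg (fun g : G => g ^ D.expo) h
  simp only [conj_pow, inv_pow, D.mul_pow_expo hy1] at h1
  have hti : t⁻¹ = t := inv_eq_of_mul_eq_one_right D.t_sq
  rw [hti, mul_inv_eq_iff_eq_mul] at h1
  have ha : a ∈ tCen t := Subgroup.mem_centralizer_singleton_iff.2 h1
  set a' : tCen t := ⟨a, ha⟩ with ha'
  have hc : Commute t (y : G) := (Subgroup.mem_centralizer_singleton_iff.1 y.2).symm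
  have h2 : a' * y * a'⁻¹ = y⁻¹ := by
    apply Subtype.ext
    show a * (y : G) * a⁻¹ = (y : G)⁻¹
    apply mul_left_cancel (a := t)
    calc t * (a * (y : G) * a⁻¹) = t * a * (y : G) * a⁻¹ := by group
      _ = a * (t * (y : G)) * a⁻¹ := by rw [← h1]; group
      _ = (t * (y : G))⁻¹ := h
      _ = t * (y : G)⁻¹ := by rw [mul_inv_rev, hti]; exact hc.inv_right.symm
  have h3 := congrArg (fun c : tCen t => (c : tCen t ⧸ oddCore (tCen t))) h2
  simp only [QuotientGroup.mk_mul, QuotientGroup.mk_inv, hy1] at h3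
  exact D.quot.not_inverted (k := 1) (by norm_num) h3

end OctCent

end CfsgLib.EightSolvCent
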