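import Cfsg.Agent.Lib.EightSolvCent.Sub

/-!
# The induced virtual characters
-/

set_option autoImplicit false
set_option linter.style.haveILetI false
set_option linter.unusedSectionVars false

namespace CfsgLib.EightSolvCent

open Cfsg CfsgLib.Base CfsgLib.Chars
open scoped ComplexConjugate

variable {G : Type*} [Group G] [Fintype G] {t : G}

namespace OctCent

variable (D : OctCent t)
include D

/-- The elements of the centralizer over `x ^ k`. -/
noncomputable def fib (k : ℕ) : Finset (tCen t) := by
  classical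
  haveI := Fintype.ofFinite (tCen t)
  exact Finset.univ.filter fun c : tCen t => (c : tCen t ⧸ oddCore (tCen t)) = D.x ^ k

theorem mem_fib {k : ℕ} {c : tCen t} :
    c ∈ D.fib k ↔ (c : tCen t ⧸ oddCore (tCen t)) = D.x ^ k := by
  simp [fib]

theorem card_fib (k : ℕ) : (D.fib k).card = Nat.card (oddCore (tCen t)) := by
  classical
  haveI := Fintype.ofFinite (oddCore (tCen t))
  obtain ⟨y₀, hy₀⟩ := QuotientGroup.mk_surjective (D.x ^ k)
  rw [Nat.card_eq_fintype_card, ← Finset.card_univ]
  refine (Finset.card_bij (fun (o : oddCore (tCen t)) _ => (o : tCen t) * y₀) (fun o _ => ?_)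
    (fun a _ b _ h => Subtype.ext (mul_right_cancel h)) (fun c hc => ?_)).symm
  · rw [D.mem_fib, QuotientGroup.mk_mul, (QuotientGroup.eq_one_iff (o : tCen t)).2 o.2, one_mul,
      hy₀]
  · rw [D.mem_fib] at hc
    refine ⟨⟨c * y₀⁻¹, ?_⟩, Finset.mem_univ _, inv_mul_cancel_right c y₀⟩
    rw [← QuotientGroup.eq_one_iff, QuotientGroup.mk_mul, QuotientGroup.mk_inv, hc, hy₀,
      mul_inv_cancel]

theorem neg_one_pow_odd {k : ℕ} (hk : k % 2 = 1) : (1 : ℂ) - (-1) ^ k = 2 := by
  rw [Odd.neg_one_pow (Nat.odd_iff.2 hk)]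
  norm_num

/-- Sums against the virtual characters. -/
theorem sum_fv_mul [Fintype D.hSub] (i : ℕ) (Ψ : G → ℂ) :
    ∑ h : D.hSub, D.fv i h * Ψ h =
      ∑ k ∈ ({1, 3, 5} : Finset ℕ), 2 * om ^ (i * k) * ∑ c ∈ D.fib k, Ψ (t * (c : G)) := by
  classical
  choose κ hκ using D.exists_pow
  have hzero : ∀ h : D.hSub, ((κ h : ℕ)) % 2 = 0 → D.fv i h * Ψ h = 0 := by
    intro h hh
    rw [D.fv_apply i (hκ h), Even.neg_one_pow (Nat.even_iff.2 hh), sub_self, mul_zero, zero_mul]
  rw [← Finset.sum_fiberwise_of_maps_to (t := Finset.range 6) (g := fun h => (κ h : ℕ))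
    (fun h _ => Finset.mem_range.2 (κ h).2)]
  rw [← Finset.sum_subset (show ({1, 3, 5} : Finset ℕ) ⊆ Finset.range 6 by decide)]
  · refine Finset.sum_congr rfl fun k hk => ?_
    have hodd : k % 2 = 1 := by
      simp only [Finset.mem_insert, Finset.mem_singleton] at hk
      omega
    have hk6 : k < 6 := by
      simp only [Finset.mem_insert, Finset.mem_singleton] at hk
      omega
    rw [Finset.mul_sum]
    refine Finset.sum_bij' (fun h _ => tEl t * ⟨(h : G), D.hSub_le h.2⟩)
      (fun c hc => ⟨t * (c : G), (D.mem_of_fibre (D.mem_fib.1 hc) hodd).1⟩) ?_ ?_ ?_ ?_ ?_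
    · intro h hh
      rw [Finset.mem_filter] at hh
      rw [D.mem_fib, ← hh.2]
      exact D.split_odd (hκ h) (hh.2 ▸ hodd)
    · intro c hc
      refine Finset.mem_filter.2 ⟨Finset.mem_univ _, ?_⟩
      obtain ⟨_, he⟩ := D.mem_of_fibre (D.mem_fib.1 hc) hodd
      exact congrArg Fin.val (D.pow_injective (k := κ _) (l := ⟨k, hk6⟩) ((hκ _).symm.trans he))
    · intro h _
      apply Subtype.ext
      show t * (t * (h : G)) = h
      rw [← mul_assoc, D.t_sq, one_mul]
    · intro c _
      apply Subtype.ext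
      show t * (t * (c : G)) = c
      rw [← mul_assoc, D.t_sq, one_mul]
    · intro h hh
      rw [Finset.mem_filter] at hh
      rw [D.fv_apply i (hκ h), hh.2, D.neg_one_pow_odd hodd]
      show om ^ (i * k) * 2 * Ψ h = 2 * om ^ (i * k) * Ψ (t * (t * (h : G)))
      rw [← mul_assoc t t, D.t_sq, one_mul]
      ring
  · intro k hk hk'
    refine Finset.sum_eq_zero fun h hh => hzero h ?_
    rw [Finset.mem_filter] at hh
    rw [Finset.mem_range] at hk
    simp only [Finset.mem_insert, Finset.mem_singleton, not_or] at hk'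
    omega

theorem card_hSub : Nat.card D.hSub = 6 * Nat.card (oddCore (tCen t)) := by
  rw [hSub, Subgroup.card_map_of_injective (tCen t).subtype_injective]
  set Z := Subgroup.zpowers D.q
  set π := QuotientGroup.mk' (oddCore (tCen t))
  have h1 := (Z.comap π).card_mul_index
  rw [Z.index_comap_of_surjective (QuotientGroup.mk'_surjective _)] at h1
  have h2 := Z.card_mul_index
  have h3 : Nat.card Z = 6 := by rw [Nat.card_zpowers, D.orderOf_q]
  rw [h3] at h2
  have h4 := Subgroup.card_eq_card_quotient_mul_card_subgroup (oddCore (tCen t))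
  rw [← h2] at h4
  have hne : Z.index ≠ 0 := Subgroup.index_ne_zero_of_finite
  apply Nat.eq_of_mul_eq_mul_right (Nat.pos_of_ne_zero hne)
  rw [h1, h4]
  ring

theorem card_tCen : Nat.card (tCen t) = 24 * Nat.card (oddCore (tCen t)) := by
  rw [Subgroup.card_eq_card_quotient_mul_card_subgroup (oddCore (tCen t)), ← D.Sb.card_mul_index,
    D.quot.card, D.quot.index]

/-- The induced virtual characters. -/
noncomputable def ind (i : ℕ) : G → ℂ := indFun D.hSub (D.fv i)

theorem isGeneralized_ind (i : ℕ) : IsGeneralizedCharacter G (D.ind i) :=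
  isGeneralized_indFun _ (D.isGeneralized_fv i)

theorem ind_one (i : ℕ) : D.ind i 1 = 0 := by
  rw [ind, indFun_one_apply, D.fv_one, mul_zero]

theorem ind_apply_fib (i : ℕ) {k : ℕ} (hk : k = 1 ∨ k = 3 ∨ k = 5) {c : tCen t}
    (hc : c ∈ D.fib k) :
    D.ind i (t * (c : G)) = (if k = 3 then 4 else 1) * (2 * om ^ (i * k)) := by
  classical
  rw [D.mem_fib] at hc
  have hodd : k % 2 = 1 := by omega
  obtain ⟨hmem, hrho⟩ := D.mem_of_fibre hc hodd
  set U : Subgroup G := if k = 3 then tCen t else D.hSub with hU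
  have hUC : U ≤ tCen t := by
    rw [hU]; split_ifs
    · exact le_refl _
    · exact D.hSub_le
  have key : ∀ u : G, extendByZero D.hSub (D.fv i) (u⁻¹ * (t * (c : G)) * u) =
      if u ∈ U then 2 * om ^ (i * k) else 0 := by
    intro u
    by_cases hu : u ∈ tCen t
    · set u' : tCen t := ⟨u, hu⟩
      set z : tCen t ⧸ oddCore (tCen t) := QuotientGroup.mk u'
      have himg : ((u'⁻¹ * (tEl t * c) * u' : tCen t) : tCen t ⧸ oddCore (tCen t)) =
          (tEl t : tCen t ⧸ oddCore (tCen t)) * (z⁻¹ * D.x ^ k * z) := by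
        simp only [QuotientGroup.mk_mul, QuotientGroup.mk_inv, hc, ← mul_assoc]
        rw [D.quot.tcentral z⁻¹]
      have hq : D.q ^ k = (tEl t : tCen t ⧸ oddCore (tCen t)) * D.x ^ k := by
        rw [D.q_pow, D.tb_pow, if_neg (by omega)]
      by_cases huU : u ∈ U
      · have hfix : z⁻¹ * D.x ^ k * z = D.x ^ k := by
          rw [hU] at huU
          split_ifs at huU with h3
          · rw [h3, D.quot.pow3]; group
          · obtain ⟨n, hn⟩ := (D.mem_hSub hu).1 huU
            have hn' : D.q ^ n = z := hn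
            have h1 : Commute z (D.q ^ k) := by
              rw [← hn', ← zpow_natCast]; exact Commute.zpow_zpow_self D.q n k
            rw [hq] at h1
            have h2 : Commute z (D.x ^ k) := by
              have h4 := (show Commute z (tEl t : tCen t ⧸ oddCore (tCen t)) from
                D.quot.tcentral z).mul_right h1
              rwa [← mul_assoc, D.quot.t_sq, one_mul] at h4
            rw [mul_assoc, ← h2.eq, inv_mul_cancel_left]
        have hm : ((u'⁻¹ * (tEl t * c) * u' : tCen t) : tCen t ⧸ oddCore (tCen t)) = D.q ^ k := by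
          rw [himg, hfix, hq]
        have hin : u⁻¹ * (t * (c : G)) * u ∈ D.hSub :=
          (D.mem_hSub (u'⁻¹ * (tEl t * c) * u').2).2 (by
            show ((u'⁻¹ * (tEl t * c) * u' : tCen t) : tCen t ⧸ oddCore (tCen t)) ∈ _
            rw [hm]; exact pow_mem (Subgroup.mem_zpowers _) k)
        rw [if_pos huU, extendByZero_of_mem _ _ hin, D.fv_apply i (k := k), D.neg_one_pow_odd hodd]
        · ring
        · apply Subtype.ext
          rw [SubmonoidClass.coe_pow, coe_rho, gen]
          exact hm
      · rw [if_neg huU]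
        by_cases hin : u⁻¹ * (t * (c : G)) * u ∈ D.hSub
        · exfalso
          obtain ⟨l, hl⟩ := D.exists_pow ⟨_, hin⟩
          have hl' : ((u'⁻¹ * (tEl t * c) * u' : tCen t) : tCen t ⧸ oddCore (tCen t)) =
              D.q ^ (l : ℕ) := by
            have := congrArg Subtype.val hl
            rwa [SubmonoidClass.coe_pow, coe_rho] at this
          rw [himg, D.q_pow] at hl'
          apply huU
          rw [hU]
          split_ifs with h3
          · exact hu
          · have hk3 : ¬ 3 ∣ k := by omega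
            have h5 : z⁻¹ * D.x ^ k * z⁻¹⁻¹ = z⁻¹ * D.x ^ k * z := by rw [inv_inv]
            have hw3 : (z⁻¹ * D.x ^ k * z) ^ 3 = 1 := by
              rw [← h5, conj_pow, ← pow_mul, mul_comm k 3, pow_mul, D.quot.pow3, one_pow, mul_one,
                mul_inv_cancel]
            have hl2 : (tEl t : tCen t ⧸ oddCore (tCen t)) ^ (l : ℕ) =
                (tEl t : tCen t ⧸ oddCore (tCen t)) := by
              have h11 := congrArg (fun g => g ^ 3) hl'
              simp only [(show Commute _ _ from (D.quot.tcentral _).symm).mul_pow, hw3, mul_one,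
                ← D.q_pow, ← pow_mul] at h11
              rw [D.q_pow, D.tb_pow, D.x_pow_mod, show (l : ℕ) * 3 % 3 = 0 by omega, pow_zero,
                mul_one, D.tb_pow, if_neg (by decide)] at h11
              rw [D.tb_pow]
              rw [show (l : ℕ) * 3 % 2 = (l : ℕ) % 2 by omega] at h11
              exact h11.symm
            rw [hl2] at hl'
            have h12 := mul_left_cancel hl'
            rw [← h5] at h12
            have h13 := D.quot.conj_eq_of_mem_zpowers h12
            rw [← h13, inv_inv, mul_assoc, inv_mul_eq_iff_eq_mul] at h12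
            obtain ⟨a, b, hab⟩ := D.quot.centralizer_pow hk3 h12.symm
            rw [D.mem_hSub hu]
            show z ∈ _
            rw [hab]
            refine mul_mem (pow_mem ?_ a) (pow_mem ?_ b)
            · rw [show (tEl t : tCen t ⧸ oddCore (tCen t)) = D.q ^ 3 by
                rw [D.q_pow, D.tb_pow, D.quot.pow3]; simp]
              exact pow_mem (Subgroup.mem_zpowers _) 3
            · rw [show D.x = D.q ^ 4 by rw [D.q_pow, D.tb_pow, D.x_pow_mod]; simp]
              exact pow_mem (Subgroup.mem_zpowers _) 4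
        · rw [extendByZero_of_not_mem _ _ hin]
    · rw [if_neg fun h => hu (hUC h)]
      by_cases hin : u⁻¹ * (t * (c : G)) * u ∈ D.hSub
      · obtain ⟨l, hl⟩ := D.exists_pow ⟨_, hin⟩
        rw [extendByZero_of_mem _ _ hin, D.fv_apply i hl]
        rcases (show (l : ℕ) % 2 = 0 ∨ (l : ℕ) % 2 = 1 by omega) with he | ho
        · rw [Even.neg_one_pow (Nat.even_iff.2 he), sub_self, mul_zero]
        · exfalso
          refine hu (D.mem_of_conj hc (D.split_odd hl ho) ?_)
          show _ = t * (t * (u⁻¹ * (t * (c : G)) * u))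
          rw [← mul_assoc t t, D.t_sq, one_mul]
      · rw [extendByZero_of_not_mem _ _ hin]
  rw [ind, indFun_apply, Finset.sum_congr rfl (fun u _ => key u), ← Finset.sum_filter,
    Finset.sum_const, nsmul_eq_mul, ← mul_assoc,
    show (Finset.univ.filter (· ∈ U)).card = Nat.card U by
      rw [Nat.card_eq_fintype_card, Fintype.card_subtype]]
  congr 1
  have hO : (Nat.card (oddCore (tCen t)) : ℂ) ≠ 0 := Nat.cast_ne_zero.2 Nat.card_pos.ne'
  rw [D.card_hSub, hU]
  split_ifs
  · rw [D.card_tCen]; push_cast; field_simp; norm_num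
  · rw [D.card_hSub]; push_cast; field_simp

/-- Inner products of the induced virtual characters. -/
theorem inner_ind (i j : ℕ) :
    classInner (D.ind i) (D.ind j) =
      2 / 3 * (om ^ i * conj (om ^ j) + 4 + om ^ (i * 5) * conj (om ^ (j * 5))) := by
  classical
  haveI := Fintype.ofFinite D.hSub
  have hcl : IsClassFunction G (D.ind j) := isClassFunction_indFun _ _
  conv_lhs => rw [ind, inner_indFun _ _ hcl, inner_def, D.sum_fv_mul i (fun g => conj (D.ind j g))]
  have h : ∀ k, (k = 1 ∨ k = 3 ∨ k = 5) → ∑ c ∈ D.fib k, conj (D.ind j (t * (c : G))) =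
      (Nat.card (oddCore (tCen t)) : ℂ) * conj ((if k = 3 then 4 else 1) * (2 * om ^ (j * k))) := by
    intro k hk
    rw [Finset.sum_congr rfl fun c hc => by rw [D.ind_apply_fib j hk hc], Finset.sum_const,
      D.card_fib, nsmul_eq_mul]
  have hO : (Nat.card (oddCore (tCen t)) : ℂ) ≠ 0 := Nat.cast_ne_zero.2 Nat.card_pos.ne'
  have h3 : ∀ n, om ^ (n * 3) = 1 := fun n => by rw [mul_comm, pow_mul, om_pow_three, one_pow]
  rw [Finset.sum_insert (by decide), Finset.sum_pair (by decide), h 1 (by simp), h 3 (by simp),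
    h 5 (by simp), D.card_hSub]
  simp only [if_true, if_neg (show ¬ (1 : ℕ) = 3 by decide), if_neg (show ¬ (5 : ℕ) = 3 by decide),
    mul_one, one_mul, h3, map_mul, map_ofNat, map_pow]
  push_cast
  field_simp
  ring

theorem inner_ind_value {i j : ℕ} (hi : i < 3) (hj : j < 3) :
    classInner (D.ind i) (D.ind j) = if i = j then 4 else 2 := by
  rw [D.inner_ind, map_pow, map_pow, conj_om, ← pow_mul, ← pow_mul, ← pow_add, ← pow_add,
    om_pow_mod (i + 2 * j), om_pow_mod (i * 5 + 2 * (j * 5))]
  interval_cases i <;> interval_cases j <;> norm_num <;> linear_combination (2 / 3 : ℂ) * om_sum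

/-- The coefficient of a character. -/
theorem inner_ind_irr (i : ℕ) (χ : IrrCharacter G) :
    classInner (D.ind i) (χ : G → ℂ) = (3 * Nat.card (oddCore (tCen t)) : ℂ)⁻¹ *
      (om ^ i * (∑ c ∈ D.fib 1, conj ((χ : G → ℂ) (t * (c : G)))) +
        ((∑ c ∈ D.fib 3, conj ((χ : G → ℂ) (t * (c : G)))) +
          om ^ (2 * i) * ∑ c ∈ D.fib 5, conj ((χ : G → ℂ) (t * (c : G))))) := by
  classical
  haveI := Fintype.ofFinite D.hSub
  rw [ind, inner_indFun _ _ (isClassFunction_irr χ), inner_def,
    D.sum_fv_mul i (fun g => conj ((χ : G → ℂ) g)), Finset.sum_insert (by decide),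
    Finset.sum_pair (by decide), D.card_hSub]
  have hO : (Nat.card (oddCore (tCen t)) : ℂ) ≠ 0 := Nat.cast_ne_zero.2 Nat.card_pos.ne'
  have h3 : om ^ (i * 3) = 1 := by rw [mul_comm, pow_mul, om_pow_three, one_pow]
  have h5 : om ^ (i * 5) = om ^ (2 * i) := by
    rw [om_pow_mod, om_pow_mod (2 * i)]
    congr 1
    omega
  rw [mul_one, h3, h5]
  push_cast
  field_simp
  ring

end OctCent

end CfsgLib.EightSolvCent
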