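import Cfsg.Agent.Lib.EightSolvCent.Ind
import Cfsg.Agent.Lib.EightSolvCent.Block
import Cfsg.Agent.Lib.EightSolvCent.Arith
import Cfsg.Agent.Lib.CharApps.ClassCount
import Cfsg.Agent.Lib.CharApps.AbelianSylow

/-!
# No simple group has involution centralizers `2 × A₄` modulo the core
-/

set_option autoImplicit false
set_option linter.style.haveILetI false
set_option linter.unusedSectionVars false

namespace CfsgLib.EightSolvCent

open Cfsg CfsgLib.Base CfsgLib.Chars CfsgLib.Blocks CfsgLib.CharApps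
open scoped ComplexConjugate

variable {G : Type*} [Group G] [Finite G] {t : G}

theorem OctCent.false_of_simple [IsSimpleGroup G] (D : OctCent t) : False := by
  classical
  haveI : Fact (Nat.Prime 2) := ⟨Nat.prime_two⟩
  haveI := Fintype.ofFinite G
  haveI := Fintype.ofFinite (tCen t)
  haveI := irrFintype G
  haveI := Fintype.ofFinite D.S
  obtain ⟨M, hM⟩ := exists_pModular 2
  haveI : M.IsPrime := hM.2.1.isPrime
  have hc : ∀ i χ, ∃ m : ℤ, classInner (D.ind i) (χ : IrrCharacter G).1 = m := fun i χ =>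
    (isGeneralized_iff_inner.1 (D.isGeneralized_ind i)).2 χ
  choose c hc using hc
  set o : ℂ := (Nat.card (oddCore (tCen t)) : ℂ) with ho
  have ho0 : o ≠ 0 := Nat.cast_ne_zero.2 Nat.card_pos.ne'
  set m : ℕ → IrrCharacter G → ℂ := fun k χ =>
    ∑ y ∈ D.fib k, conj ((χ : G → ℂ) (t * (y : G))) with hm
  have hcm : ∀ i χ, (c i χ : ℂ) = (3 * o)⁻¹ * (om ^ i * m 1 χ + (m 3 χ + om ^ (2 * i) * m 5 χ)) :=
    fun i χ => (hc i χ).symm.trans (D.inner_ind_irr i χ)
  have e4 : om ^ 4 = om := by rw [om_pow_mod]; norm_num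
  have hm3 : ∀ χ, m 3 χ = o * ((c 0 χ : ℂ) + c 1 χ + c 2 χ) := by
    intro χ
    rw [hcm 0 χ, hcm 1 χ, hcm 2 χ]
    field_simp
    rw [show 2 * 2 = 4 from rfl, e4]
    linear_combination -(m 1 χ + m 5 χ) * om_sum
  have hm1 : ∀ χ, m 1 χ = o * ((c 0 χ : ℂ) + om ^ 2 * c 1 χ + om * c 2 χ) := by
    intro χ
    rw [hcm 0 χ, hcm 1 χ, hcm 2 χ]
    field_simp
    linear_combination -(m 3 χ + m 5 χ) * om_sum - (2 * m 1 χ + om * m 5 χ + om ^ 2 * m 5 χ) * om_pow_three
  set s : IrrCharacter G → ℤ := fun χ => c 0 χ + c 1 χ + c 2 χ with hs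
  -- values
  have hout : ∀ χ, χ ∉ principalBlock M G → ∀ k, m k χ = 0 := by
    intro χ hχ k
    have h := D.sum_fibre_eq_zero hM hχ k
    simp only [hm]
    rw [← map_sum, show (∑ y ∈ D.fib k, (χ : G → ℂ) (t * (y : G))) = 0 from ?_, map_zero]
    rw [← h]
    refine Finset.sum_congr (Finset.ext fun y => ?_) fun _ _ => rfl
    simp [D.mem_fib]
  have hczero : ∀ χ, χ ∉ principalBlock M G → ∀ i, c i χ = 0 := by
    intro χ hχ i
    have h := hcm i χ
    rw [hout χ hχ, hout χ hχ, hout χ hχ] at h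
    simpa using h
  have hval : ∀ χ, χ ∈ principalBlock M G → (χ : G → ℂ) t = (s χ : ℂ) := by
    intro χ hχ
    have h : m 3 χ = o * conj ((χ : G → ℂ) t) := by
      simp only [hm]
      rw [Finset.sum_congr rfl (g := fun _ => conj ((χ : G → ℂ) t)), Finset.sum_const, D.card_fib,
        nsmul_eq_mul]
      intro y hy
      rw [D.mem_fib, D.quot.pow3, QuotientGroup.eq_one_iff] at hy
      rw [principalBlock_apply_mul_core hM ⟨1, by rw [D.ord, pow_one]⟩ hy hχ]
    rw [hm3] at h
    have h' := congrArg conj (mul_left_cancel₀ ho0 h)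
    rw [starRingEnd_self_apply] at h'
    rw [← h']
    simp [hs]
  -- norms
  have hgram : ∀ i j, i < 3 → j < 3 →
      ∑ χ : IrrCharacter G, c i χ * c j χ = if i = j then 4 else 2 := by
    intro i j hi hj
    have h := D.inner_ind_value hi hj
    have hcl : IsClassFunction G (D.ind i) := isClassFunction_indFun _ _
    rw [inner_eq_sum hcl (D.ind j)] at h
    simp only [hc, map_intCast] at h
    apply Int.cast_injective (α := ℂ)
    push_cast [Int.cast_ite]
    exact h
  -- the principal character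
  have hprin : c 0 (principal G) = 1 ∧ c 1 (principal G) = 0 ∧ c 2 (principal G) = 0 := by
    have hmp : ∀ k, m k (principal G) = o := fun k => by
      simp [hm, principal_apply, D.card_fib, ho]
    have h : ∀ i, (c i (principal G) : ℂ) = (3 : ℂ)⁻¹ * (om ^ i + (1 + om ^ (2 * i))) := by
      intro i
      rw [hcm, hmp, hmp, hmp]
      field_simp
    refine ⟨?_, ?_, ?_⟩ <;> apply Int.cast_injective (α := ℂ) <;> rw [h]
    · norm_num
    · push_cast; linear_combination (3 : ℂ)⁻¹ * om_sum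
    · rw [show 2 * 2 = 4 from rfl, e4]; push_cast; linear_combination (3 : ℂ)⁻¹ * om_sum
  -- coefficients are small
  have hsmall : ∀ i, i < 3 → ∀ χ, |c i χ| ≤ 1 := by
    intro i hi χ
    by_contra hlt
    push Not at hlt
    have h4 := hgram i i hi hi
    rw [if_pos rfl, ← Finset.add_sum_erase _ _ (Finset.mem_univ χ)] at h4
    have h22 : 4 ≤ c i χ * c i χ := by
      have h2 : 2 ≤ |c i χ| := by omega
      have := mul_le_mul h2 h2 (by norm_num) (abs_nonneg _)
      rwa [abs_mul_abs_self, show (2 : ℤ) * 2 = 4 by norm_num] at this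
    have hnn : ∀ ψ ∈ Finset.univ.erase χ, 0 ≤ c i ψ * c i ψ := fun ψ _ => mul_self_nonneg _
    have h0 : ∑ ψ ∈ Finset.univ.erase χ, c i ψ * c i ψ = 0 := by
      have := Finset.sum_nonneg hnn
      linarith
    have hz : ∀ ψ, ψ ≠ χ → c i ψ = 0 := fun ψ hψ => mul_self_eq_zero.1
      ((Finset.sum_eq_zero_iff_of_nonneg hnn).1 h0 ψ (Finset.mem_erase.2 ⟨hψ, Finset.mem_univ ψ⟩))
    have h1 := congrFun (classFun_eq_sum (isClassFunction_indFun D.hSub (D.fv i))) 1
    rw [Finset.sum_apply, Finset.sum_eq_single χ (fun ψ _ hψ => by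
      show (classInner (D.ind i) (ψ : G → ℂ)) * (ψ : G → ℂ) 1 = 0
      rw [hc, hz ψ hψ]; simp) (by simp)] at h1
    change D.ind i 1 = classInner (D.ind i) (χ : G → ℂ) * (χ : G → ℂ) 1 at h1
    rw [D.ind_one, hc, eq_comm, mul_eq_zero] at h1
    have := Int.cast_eq_zero.1 (h1.resolve_right (deg_ne_zero χ))
    rw [this] at h22
    norm_num at h22
  -- degrees
  have hdeg : ∀ χ, χ ≠ principal G → s χ ≠ 0 →
      ((charDegree (χ : G → ℂ) : ℤ) ≠ s χ) ∧
        ∃ k : ℕ, (charDegree (χ : G → ℂ) : ℤ) + 7 * s χ = 8 * (k : ℤ) := by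
    intro χ hne hsne
    have hB : χ ∈ principalBlock M G := by
      by_contra hB
      exact hsne (by simp [hs, hczero χ hB])
    have hv := hval χ hB
    constructor
    · intro heq
      have hker : t ∈ charKer χ := by
        rw [mem_charKer, hv, deg_eq, ← heq]
        simp
      haveI := charKer_normal χ
      rcases IsSimpleGroup.eq_bot_or_eq_top_of_normal (charKer χ) (charKer_normal χ) with e | e
      · rw [e, Subgroup.mem_bot] at hker
        have := D.ord
        rw [hker, orderOf_one] at this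
        norm_num at this
      · have hconst : ∀ g : G, (χ : G → ℂ) g = (χ : G → ℂ) 1 := fun g =>
          mem_charKer.1 (e ▸ Subgroup.mem_top g)
        have h0 := inner_irr_ne hne
        rw [inner_def] at h0
        simp only [hconst, principal_apply, map_one, mul_one, Finset.sum_const, Finset.card_univ,
          nsmul_eq_mul, ← Nat.card_eq_fintype_card] at h0
        exact deg_ne_zero χ
          (by simpa [(Nat.card_pos (α := G)).ne'] using h0)
    · obtain ⟨k, hk⟩ := inner_irr_right_nat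
        (isCharacter_restrict D.S (isCharacter_of_irr χ.2)) (principal D.S)
      refine ⟨k, ?_⟩
      have hother : ∀ y : D.S, y ≠ 1 → (χ : G → ℂ) y = (s χ : ℂ) := by
        intro y hy
        obtain ⟨g, hg⟩ := isConj_iff.1 (D.conj_S y y.2 fun e => hy (Subtype.ext e))
        rw [← hg, isClassFunction_irr χ t g, hv]
      rw [inner_def, ← Finset.add_sum_erase _ _ (Finset.mem_univ (1 : D.S)),
        Finset.sum_congr rfl (g := fun _ => (s χ : ℂ)) (fun y hy => by
          rw [principal_apply, map_one, mul_one, hother y (Finset.ne_of_mem_erase hy)]),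
        Finset.sum_const, Finset.card_erase_of_mem (Finset.mem_univ _), Finset.card_univ,
        ← Nat.card_eq_fintype_card, D.card_S, principal_apply, map_one, mul_one, Subgroup.coe_one,
        deg_eq] at hk
      apply Int.cast_injective (α := ℂ)
      push_cast
      rw [← hk]
      norm_num
      ring
  -- the counting identity
  have hcount : ∀ y ∈ D.fib 1, ∑ χ : IrrCharacter G,
      (χ : G → ℂ) t * (χ : G → ℂ) t * conj ((χ : G → ℂ) (t * (y : G))) / (χ : G → ℂ) 1 = 0 := by
    intro y hy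
    rw [D.mem_fib, pow_one] at hy
    have h := card_conj_mul_conj t t (t * (y : G))
    haveI : IsEmpty {ab : G × G //
        ab.1 * t * ab.1⁻¹ * (ab.2 * t * ab.2⁻¹) = t * (y : G)} := by
      refine ⟨fun ⟨⟨u, v⟩, huv⟩ => D.not_inverts (a := u * t * u⁻¹) hy ?_⟩
      have hti : t⁻¹ = t := inv_eq_of_mul_eq_one_right D.t_sq
      rw [← huv]
      simp only [mul_inv_rev, inv_inv, hti]
      calc u * t * u⁻¹ * (u * t * u⁻¹ * (v * t * v⁻¹)) * (u * (t * u⁻¹))
          = u * (t * t) * u⁻¹ * (v * t * v⁻¹) * (u * t * u⁻¹) := by group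
        _ = _ := by rw [D.t_sq]; group
    rw [Nat.card_of_isEmpty, Nat.cast_zero, eq_comm, mul_eq_zero_iff_left (card_ne_zero G)] at h
    simpa only [irr_inv] using h
  have hT : ∑ χ : IrrCharacter G, (s χ : ℂ) ^ 2 *
      ((c 0 χ : ℂ) + om ^ 2 * c 1 χ + om * c 2 χ) / (χ : G → ℂ) 1 = 0 := by
    apply mul_left_cancel₀ ho0
    rw [mul_zero, ← Finset.sum_eq_zero hcount, Finset.sum_comm, Finset.mul_sum]
    refine Finset.sum_congr rfl fun χ _ => ?_
    rw [← Finset.sum_div, ← Finset.mul_sum, ← mul_div_assoc]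
    congr 1
    show _ = _ * m 1 χ
    by_cases hχ : χ ∈ principalBlock M G
    · rw [hm1, hval χ hχ]; ring
    · rw [hout χ hχ, hczero χ hχ, hczero χ hχ, hczero χ hχ]; simp
  set d : IrrCharacter G → ℝ := fun χ => (charDegree (χ : G → ℂ) : ℝ) with hd
  set a : ℕ → ℝ := fun j => ∑ χ : IrrCharacter G, (s χ : ℝ) ^ 2 * (c j χ : ℝ) / d χ with ha
  have hcomb : ((a 0 : ℝ) : ℂ) + om ^ 2 * (a 1 : ℝ) + om * (a 2 : ℝ) = 0 := by
    rw [← hT]
    simp only [ha, hd, Complex.ofReal_sum, Complex.ofReal_div, Complex.ofReal_mul,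
      Complex.ofReal_pow, Complex.ofReal_intCast, Complex.ofReal_natCast, Finset.mul_sum,
      ← Finset.sum_add_distrib, deg_eq]
    exact Finset.sum_congr rfl fun χ _ => by ring
  have h01 := (eq_of_comb hcomb).1
  refine weighted_ne_zero (principal G) (c 0) (c 1) (c 2) d ?_ ?_ ?_ ?_ ?_ hprin.1 hprin.2.1
    hprin.2.2 ?_ (fun χ => ⟨hsmall 0 (by norm_num) χ, hsmall 1 (by norm_num) χ,
      hsmall 2 (by norm_num) χ⟩) ?_ ?_ ?_
  · simpa using hgram 0 0 (by norm_num) (by norm_num)
  · simpa using hgram 1 1 (by norm_num) (by norm_num)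
  · simpa using hgram 0 1 (by norm_num) (by norm_num)
  · simpa using hgram 0 2 (by norm_num) (by norm_num)
  · simpa using hgram 1 2 (by norm_num) (by norm_num)
  · have h : charDegree ((principal G : IrrCharacter G) : G → ℂ) = 1 :=
      (deg_eq_one_iff _).1 (principal_apply 1)
    simp [hd, h]
  · intro χ hne hsχ
    have hs1 : |s χ| = 1 := hsχ
    obtain ⟨h1, k, hk⟩ := hdeg χ hne (fun e => by rw [e] at hs1; norm_num at hs1)
    have hpos : 0 < (charDegree (χ : G → ℂ) : ℤ) := by exact_mod_cast deg_pos χ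
    have h7 : (7 : ℤ) ≤ charDegree (χ : G → ℂ) := by
      rcases (abs_eq (by norm_num)).1 hs1 with e | e <;> rw [e] at h1 hk <;> omega
    show (7 : ℝ) ≤ (charDegree (χ : G → ℂ) : ℝ)
    exact_mod_cast h7
  · intro χ hne hsχ
    have hs2 : |s χ| = 2 := hsχ
    obtain ⟨h1, k, hk⟩ := hdeg χ hne (fun e => by rw [e] at hs2; norm_num at hs2)
    have hpos : 0 < (charDegree (χ : G → ℂ) : ℤ) := by exact_mod_cast deg_pos χ
    have h10 : (10 : ℤ) ≤ charDegree (χ : G → ℂ) := by
      rcases (abs_eq (by norm_num)).1 hs2 with e | e <;> rw [e] at h1 hk <;> omega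
    show (10 : ℝ) ≤ (charDegree (χ : G → ℂ) : ℝ)
    exact_mod_cast h10
  · have e : ∑ χ : IrrCharacter G, ((c 0 χ + c 1 χ + c 2 χ : ℤ) : ℝ) ^ 2 *
        ((c 0 χ - c 1 χ : ℤ) : ℝ) / d χ = a 0 - a 1 := by
      simp only [ha, ← Finset.sum_sub_distrib]
      refine Finset.sum_congr rfl fun χ _ => ?_
      simp only [hs]
      push_cast
      ring
    rw [e, h01, sub_self]

end CfsgLib.EightSolvCent
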