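import Mathlib

/-!
# A primitive cube root of unity
-/

set_option autoImplicit false

namespace CfsgLib.EightSolvCent

open scoped ComplexConjugate

/-- A primitive cube root of unity. -/
noncomputable def om : ℂ := ⟨-1 / 2, Real.sqrt 3 / 2⟩

theorem sqrt_three_mul : Real.sqrt 3 * Real.sqrt 3 = 3 := Real.mul_self_sqrt (by norm_num)

theorem om_sum : 1 + om + om ^ 2 = 0 := by
  have h := sqrt_three_mul
  apply Complex.ext
  · simp [om, pow_two]
    linear_combination (-1 / 4 : ℝ) * h
  · simp [om, pow_two]
    ring

theorem om_pow_three : om ^ 3 = 1 := by linear_combination (om - 1) * om_sum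

theorem conj_om : conj om = om ^ 2 := by
  have h := sqrt_three_mul
  apply Complex.ext
  · simp [om, pow_two]
    linear_combination (1 / 4 : ℝ) * h
  · simp [om, pow_two]
    ring

theorem om_pow_mod (n : ℕ) : om ^ n = om ^ (n % 3) := by
  conv_lhs => rw [← Nat.div_add_mod n 3, pow_add, pow_mul, om_pow_three, one_pow, one_mul]

theorem om_ne_zero : om ≠ 0 := fun h => by
  have := om_pow_three
  rw [h] at this
  norm_num at this

theorem neg_om_pow_six (i : ℕ) : (-(om ^ i)) ^ 6 = 1 := by
  rw [Even.neg_pow (by decide), ← pow_mul, om_pow_mod, show i * 6 % 3 = 0 by omega, pow_zero]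

theorem om_pow_six (i : ℕ) : (om ^ i) ^ 6 = 1 := by
  rw [← pow_mul, om_pow_mod, show i * 6 % 3 = 0 by omega, pow_zero]

/-- A real combination of the cube roots vanishes only if it is constant. -/
theorem eq_of_comb {a b c : ℝ} (h : (a : ℂ) + om ^ 2 * b + om * c = 0) : a = b ∧ a = c := by
  have h3 := sqrt_three_mul
  have hre := congrArg Complex.re h
  have him := congrArg Complex.im h
  simp [om, pow_two] at hre him
  have hbc : b = c := by
    have hpos : (0 : ℝ) < Real.sqrt 3 := by positivity
    have h4 : Real.sqrt 3 * (c - b) = 0 := by linear_combination 2 * him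
    have := (mul_eq_zero.1 h4).resolve_left hpos.ne'
    linarith
  subst hbc
  constructor <;> linear_combination hre + (1 / 4 : ℝ) * b * h3

end CfsgLib.EightSolvCent
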