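import Cfsg.Agent.Lib.EightSolvCent.Fibre
import Cfsg.Agent.Lib.EightSolvCent.Omega
import Cfsg.Agent.Lib.Chars.Linear
import Cfsg.Agent.Lib.Chars.Induction

/-!
# The subgroup over `⟨t, x⟩` and its virtual characters
-/

set_option autoImplicit false
set_option linter.style.haveILetI false

namespace CfsgLib.EightSolvCent

open Cfsg CfsgLib.Base CfsgLib.Chars
open scoped ComplexConjugate

variable {G : Type*} [Group G] [Finite G] {t : G}

namespace OctCent

variable (D : OctCent t)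
include D

/-- The generator `t x` modulo the core. -/
def q : tCen t ⧸ oddCore (tCen t) := (tEl t : tCen t ⧸ oddCore (tCen t)) * D.x

theorem q_pow (k : ℕ) :
    D.q ^ k = (tEl t : tCen t ⧸ oddCore (tCen t)) ^ k * D.x ^ k :=
  (show Commute _ _ from (D.quot.tcentral D.x).symm).mul_pow k

theorem tb_pow (k : ℕ) : (tEl t : tCen t ⧸ oddCore (tCen t)) ^ k =
    if k % 2 = 0 then 1 else (tEl t : tCen t ⧸ oddCore (tCen t)) := by
  conv_lhs => rw [← Nat.div_add_mod k 2, pow_add, pow_mul, sq, D.quot.t_sq, one_pow, one_mul]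
  rcases (show k % 2 = 0 ∨ k % 2 = 1 by omega) with e | e <;> simp [e]

theorem x_pow_mod (k : ℕ) : D.x ^ k = D.x ^ (k % 3) := by
  conv_lhs => rw [← Nat.div_add_mod k 3, pow_add, pow_mul, D.quot.pow3, one_pow, one_mul]

theorem orderOf_q : orderOf D.q = 6 := by
  have h6 : D.q ^ 6 = 1 := by
    rw [D.q_pow, D.tb_pow, D.x_pow_mod]; simp
  have hne : D.x ≠ 1 := fun e => D.quot.notMem (e ▸ one_mem _)
  refine orderOf_eq_of_pow_and_pow_div_prime (by norm_num) h6 fun p hp hd => ?_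
  have hle := Nat.le_of_dvd (by norm_num) hd
  interval_cases p
  all_goals first
    | (exfalso; revert hp; decide)
    | (exfalso; revert hd; decide)
    | skip
  · rw [D.q_pow, D.tb_pow, D.x_pow_mod]
    simpa using D.quot.tne
  · rw [D.q_pow, D.tb_pow]
    simp only [show 6 / 3 = 2 from rfl, show 2 % 2 = 0 from rfl, ↓reduceIte, one_mul]
    intro e
    apply hne
    calc D.x = D.x ^ 3 * (D.x ^ 2)⁻¹ := by group
      _ = 1 := by rw [e, D.quot.pow3, inv_one, mul_one]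

/-- The subgroup of the centralizer lying over `⟨t x⟩`. -/
def hSub : Subgroup G :=
  ((Subgroup.zpowers D.q).comap (QuotientGroup.mk' (oddCore (tCen t)))).map (tCen t).subtype

theorem hSub_le : D.hSub ≤ tCen t := Subgroup.map_subtype_le _

theorem mem_hSub {g : G} (hg : g ∈ tCen t) :
    g ∈ D.hSub ↔ ((⟨g, hg⟩ : tCen t) : tCen t ⧸ oddCore (tCen t)) ∈ Subgroup.zpowers D.q := by
  constructor
  · rintro ⟨c, hc, hcg⟩
    rw [show (⟨g, hg⟩ : tCen t) = c from Subtype.ext hcg.symm]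
    exact hc
  · exact fun h => ⟨⟨g, hg⟩, h, rfl⟩

/-- The generator, as an element of its subgroup. -/
def gen : Subgroup.zpowers D.q := ⟨D.q, Subgroup.mem_zpowers D.q⟩

theorem orderOf_gen : orderOf D.gen = 6 := by
  rw [gen, Subgroup.orderOf_mk, D.orderOf_q]

theorem forall_mem_gen : ∀ z : Subgroup.zpowers D.q, z ∈ Subgroup.zpowers D.gen := by
  rintro ⟨z, k, rfl⟩
  exact ⟨k, Subtype.ext (by simp [gen])⟩

/-- The image map. -/
def rho : D.hSub →* Subgroup.zpowers D.q :=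
  ((QuotientGroup.mk' (oddCore (tCen t))).comp (Subgroup.inclusion D.hSub_le)).codRestrict _
    fun h => (D.mem_hSub (D.hSub_le h.2)).1 h.2

theorem coe_rho (h : D.hSub) : (D.rho h : tCen t ⧸ oddCore (tCen t)) =
    ((⟨(h : G), D.hSub_le h.2⟩ : tCen t) : tCen t ⧸ oddCore (tCen t)) := rfl

/-- The exponent of an element of the subgroup. -/
theorem exists_pow (h : D.hSub) : ∃ k : Fin 6, D.rho h = D.gen ^ (k : ℕ) := by
  obtain ⟨n, hn⟩ := (IsOfFinOrder.mem_powers_iff_mem_zpowers (isOfFinOrder_of_finite D.gen)).2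
    (D.forall_mem_gen (D.rho h))
  refine ⟨⟨n % 6, Nat.mod_lt _ (by norm_num)⟩, ?_⟩
  show _ = D.gen ^ (n % 6)
  conv_rhs => rw [← D.orderOf_gen, pow_mod_orderOf]
  exact hn.symm

theorem pow_injective {k l : Fin 6} (h : D.gen ^ (k : ℕ) = D.gen ^ (l : ℕ)) : k = l := by
  have := (pow_injOn_Iio_orderOf (x := D.gen))
  refine Fin.ext (this ?_ ?_ h)
  · rw [Set.mem_Iio, D.orderOf_gen]; exact k.2
  · rw [Set.mem_Iio, D.orderOf_gen]; exact l.2

/-- A linear character of the subgroup. -/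
noncomputable def lam (ζ : ℂˣ) (hζ : ζ ^ 6 = 1) : D.hSub →* ℂˣ :=
  (monoidHomOfForallMemZpowers D.forall_mem_gen (g' := ζ)
    (by rw [D.orderOf_gen]; exact orderOf_dvd_of_pow_eq_one hζ)).comp D.rho

theorem lam_apply (ζ : ℂˣ) (hζ : ζ ^ 6 = 1) {h : D.hSub} {k : ℕ} (hk : D.rho h = D.gen ^ k) :
    D.lam ζ hζ h = ζ ^ k := by
  rw [lam, MonoidHom.comp_apply, hk, map_pow, monoidHomOfForallMemZpowers_apply_gen]

/-- The three virtual characters. -/
noncomputable def fv (i : ℕ) : D.hSub → ℂ := fun h =>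
  (D.lam (Units.mk0 (om ^ i) (pow_ne_zero i om_ne_zero)) (Units.ext (by simpa using om_pow_six i)) h : ℂ) -
  (D.lam (Units.mk0 (-(om ^ i)) (neg_ne_zero.2 (pow_ne_zero i om_ne_zero)))
    (Units.ext (by simpa using neg_om_pow_six i)) h : ℂ)

theorem fv_apply (i : ℕ) {h : D.hSub} {k : ℕ} (hk : D.rho h = D.gen ^ k) :
    D.fv i h = om ^ (i * k) * (1 - (-1) ^ k) := by
  simp only [fv, D.lam_apply _ _ hk, Units.val_pow_eq_pow_val, Units.val_mk0]
  rw [neg_pow (om ^ i), ← pow_mul]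
  ring

theorem fv_one (i : ℕ) : D.fv i 1 = 0 := by
  rw [D.fv_apply i (k := 0) (by simp)]
  simp

theorem isGeneralized_fv (i : ℕ) : IsGeneralizedCharacter D.hSub (D.fv i) :=
  ⟨_, _, isCharacter_of_irr (isIrrCharacter_linear _),
    isCharacter_of_irr (isIrrCharacter_linear _), rfl⟩

/-- An element of exponent `k` odd is `t` times an element over `x ^ k`. -/
theorem split_odd {h : D.hSub} {k : ℕ} (hk : D.rho h = D.gen ^ k) (hodd : k % 2 = 1) :
    ((tEl t * ⟨(h : G), D.hSub_le h.2⟩ : tCen t) : tCen t ⧸ oddCore (tCen t)) = D.x ^ k := by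
  have e : ((⟨(h : G), D.hSub_le h.2⟩ : tCen t) : tCen t ⧸ oddCore (tCen t)) = D.q ^ k := by
    rw [← D.coe_rho, hk, SubmonoidClass.coe_pow, gen]
  rw [QuotientGroup.mk_mul, e, D.q_pow, D.tb_pow, if_neg (by omega), ← mul_assoc, D.quot.t_sq,
    one_mul]

/-- An element over `x ^ k` gives an element of exponent `k` odd. -/
theorem mem_of_fibre {c : tCen t} {k : ℕ} (hc : (c : tCen t ⧸ oddCore (tCen t)) = D.x ^ k)
    (hodd : k % 2 = 1) :
    ∃ hm : t * (c : G) ∈ D.hSub, D.rho ⟨t * (c : G), hm⟩ = D.gen ^ k := by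
  have e : ((tEl t * c : tCen t) : tCen t ⧸ oddCore (tCen t)) = D.q ^ k := by
    rw [QuotientGroup.mk_mul, hc, D.q_pow, D.tb_pow, if_neg (by omega)]
  refine ⟨(D.mem_hSub (tEl t * c).2).2 (by
    show ((tEl t * c : tCen t) : tCen t ⧸ oddCore (tCen t)) ∈ _
    rw [e]; exact pow_mem (Subgroup.mem_zpowers _) k), Subtype.ext ?_⟩
  rw [SubmonoidClass.coe_pow, coe_rho, gen]
  exact e

end OctCent

end CfsgLib.EightSolvCent
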